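import Mathlib.Data.ZMod.Basic
import Mathlib.GroupTheory.Perm.Basic
import Mathlib.GroupTheory.OrderOfElement
import Mathlib.Tactic.NormNum
import Mathlib.Tactic.FinCases

/-!
# Permutations of eleven points normalising a group of order five
-/

set_option autoImplicit false
set_option maxRecDepth 100000

namespace CfsgLib.M11Uniq.Eleven

/-- The permutation with given values at `1` and `2` carrying multiplication by `3` to
multiplication by `9`. -/
def vfun (a b i : ZMod 11) : ZMod 11 :=
  [0, a, b, 9 * a, 5 * a, 3 * a, 9 * b, 4 * b, 5 * b, 4 * a, 3 * b].getD i.val 0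

theorem eq_vfun {v : ZMod 11 → ZMod 11} (h0 : v 0 = 0) (h : ∀ i, v (3 * i) = 9 * v i) :
    v = vfun (v 1) (v 2) := by
  have h3 : v 3 = 9 * v 1 := h 1
  have h9 : v 9 = 4 * v 1 := by
    rw [show (9 : ZMod 11) = 3 * 3 by decide, h 3, h3, ← mul_assoc]
    congr 1
  have h5 : v 5 = 3 * v 1 := by
    rw [show (5 : ZMod 11) = 3 * 9 by decide, h 9, h9, ← mul_assoc]
    congr 1
  have h4 : v 4 = 5 * v 1 := by
    rw [show (4 : ZMod 11) = 3 * 5 by decide, h 5, h5, ← mul_assoc]
    congr 1
  have h6 : v 6 = 9 * v 2 := by rw [show (6 : ZMod 11) = 3 * 2 by decide, h 2]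
  have h7 : v 7 = 4 * v 2 := by
    rw [show (7 : ZMod 11) = 3 * 6 by decide, h 6, h6, ← mul_assoc]
    congr 1
  have h10 : v 10 = 3 * v 2 := by
    rw [show (10 : ZMod 11) = 3 * 7 by decide, h 7, h7, ← mul_assoc]
    congr 1
  have h8 : v 8 = 5 * v 2 := by
    rw [show (8 : ZMod 11) = 3 * 10 by decide, h 10, h10, ← mul_assoc]
    congr 1
  funext i
  revert i
  show ∀ i : Fin 11, v i = vfun (v 1) (v 2) i
  intro i
  fin_cases i <;> first
    | exact h0 | rfl | exact h3 | exact h4 | exact h5 | exact h6 | exact h7 | exact h8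
    | exact h9 | exact h10

/-- All residues. -/
def univList : List (ZMod 11) := [0, 1, 2, 3, 4, 5, 6, 7, 8, 9, 10]

theorem mem_univList (i : ZMod 11) : i ∈ univList := by revert i; decide

/-- Whether `f` has order exactly `n`. -/
def isOrd (f : ZMod 11 → ZMod 11) (n : ℕ) : Bool :=
  univList.all (fun i => f^[n] i == i) &&
    (List.range n).all (fun k => k == 0 || univList.any (fun i => f^[k] i != i))

/-- Either the permutation is a conjugate of the standard one, or it yields an excluded order. -/
def classified (orders : List ℕ) (a b : ZMod 11) : Bool :=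
  univList.any (fun i => univList.any fun j => i != j && vfun a b i == vfun a b j) ||
  univList.any (fun i => orders.any fun n => isOrd (fun x => vfun a b x + i) n) ||
  univList.any (fun m => univList.any fun m' => m * m' == 1 &&
    univList.all (fun i => m * vfun a b (m' * i) == vfun 1 6 i))

theorem classified_all : univList.all (fun a => univList.all fun b =>
    classified [10, 12, 14, 15, 18, 20, 21, 24, 28, 30] a b) = true := by
  decide +kernel

theorem pow_apply_eq (p : Equiv.Perm (ZMod 11)) (k : ℕ) (i : ZMod 11) : (p ^ k) i = p^[k] i := by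
  rw [Equiv.Perm.coe_pow]

theorem orderOf_of_isOrd {p : Equiv.Perm (ZMod 11)} {f : ZMod 11 → ZMod 11} (hp : ∀ i, p i = f i)
    {n : ℕ} (hn : 0 < n) (h : isOrd f n = true) : orderOf p = n := by
  obtain rfl : ⇑p = f := funext hp
  simp only [isOrd, Bool.and_eq_true, List.all_eq_true, List.any_eq_true, Bool.or_eq_true,
    beq_iff_eq, bne_iff_ne, List.mem_range] at h
  rw [orderOf_eq_iff hn]
  refine ⟨Equiv.ext fun i => by rw [pow_apply_eq]; exact h.1 i (mem_univList i), fun k hk hk0 e => ?_⟩
  rcases h.2 k hk with h' | ⟨i, -, hi⟩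
  · omega
  · exact hi (by rw [← pow_apply_eq, e]; rfl)

/-- The standard translation. -/
def c0 : Equiv.Perm (ZMod 11) := ⟨fun i => i + 1, fun i => i - 1, fun i => by simp, fun i => by simp⟩

/-- The standard multiplier of order five. -/
def y0 : Equiv.Perm (ZMod 11) :=
  ⟨fun i => 3 * i, fun i => 4 * i, by intro i; revert i; decide, by intro i; revert i; decide⟩

/-- The standard element of order four. -/
def v0 : Equiv.Perm (ZMod 11) :=
  ⟨vfun 1 6, fun i => vfun 1 6 (vfun 1 6 (vfun 1 6 i)), by intro i; revert i; decide,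
    by intro i; revert i; decide⟩

theorem c0_pow (m : ℕ) (i : ZMod 11) : (c0 ^ m) i = i + m := by
  induction m with
  | zero => simp
  | succ m ih => rw [pow_succ', Equiv.Perm.mul_apply, ih]; simp [c0, add_assoc]

theorem orderOf_c0 : orderOf c0 = 11 := by
  refine orderOf_of_isOrd (f := fun i => i + 1) (fun _ => rfl) (by norm_num) ?_
  decide +kernel

theorem orderOf_eight : orderOf (c0 ^ 2 * v0) = 8 := by
  refine orderOf_of_isOrd (f := fun i => vfun 1 6 i + 2) (fun i => ?_) (by norm_num) ?_
  · rw [Equiv.Perm.mul_apply, c0_pow]; rfl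
  · decide +kernel

theorem orderOf_y0 : orderOf y0 = 5 := by
  refine orderOf_of_isOrd (f := fun i => 3 * i) (fun _ => rfl) (by norm_num) ?_
  decide +kernel

theorem y0_c0 : y0 * c0 * y0⁻¹ = c0 ^ 3 := by
  refine Equiv.ext fun i => ?_
  rw [c0_pow]
  revert i
  decide

/-- The standard generating set's group. -/
def std : Subgroup (Equiv.Perm (ZMod 11)) := Subgroup.closure {c0, y0, v0}

end CfsgLib.M11Uniq.Eleven
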