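import Cfsg.Agent.SmallSimple.M11Uniq.Local
import Mathlib.Dynamics.PeriodicPts.Defs

/-!
# Orders which do not occur in a simple group of order 7920
-/

set_option autoImplicit false
set_option linter.style.haveILetI false
set_option linter.unusedSectionVars false

namespace CfsgLib.M11Uniq

open Subgroup CfsgLib.Order7920 CfsgLib.Order7920Classes

/-- Orders to be excluded. -/
def badOrders : List ℕ := [10, 12, 14, 15, 18, 20, 21, 24, 28, 30]

variable {G : Type*} [Group G] [Finite G] [IsSimpleGroup G] (hG : Nat.card G = 7920)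
include hG

theorem no_bad_order {n : ℕ} (hn : n ∈ badOrders) (w : G) : orderOf w ≠ n := by
  intro hw
  have hpow : ∀ {m k : ℕ}, n = m * k → 0 < m → orderOf (w ^ m) = k := fun {m k} h hm => by
    rw [orderOf_pow' w hm.ne', hw, h, Nat.gcd_mul_right_left, Nat.mul_div_cancel_left _ hm]
  have h7 : ¬ 7 ∣ n := fun h => by
    have h2 := h.trans (hw ▸ orderOf_dvd_natCard w)
    rw [hG] at h2
    norm_num at h2
  have h9 : ∀ {m : ℕ}, n = m * 9 → 0 < m → False := fun h hm => no_nine hG (w ^ _) (hpow h hm)
  have h5 : ∀ {m : ℕ}, n = m * 5 → 1 < m → False := fun {m} h hm => by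
    have hy := hpow h (by omega)
    have hmem : w ∈ centralizer ({w ^ m} : Set G) :=
      mem_centralizer_singleton_iff.2 (Commute.self_pow w m).eq
    have := orderOf_mem_dvd hmem
    rw [hw, (five hG hy).1, h] at this
    have := Nat.le_of_dvd (by norm_num) this
    omega
  have h3 : ∀ {m : ℕ}, n = m * 3 → 4 ∣ n → 0 < m → False := fun {m} h h4 hm => by
    have hy := hpow h hm
    have hmem : w ∈ centralizer ({w ^ m} : Set G) :=
      mem_centralizer_singleton_iff.2 (Commute.self_pow w m).eq
    have := h4.trans ((hw ▸ orderOf_mem_dvd hmem).trans (card_centralizer_three hG hy))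
    norm_num at this
  simp only [badOrders, List.mem_cons, List.not_mem_nil, or_false] at hn
  rcases hn with rfl | rfl | rfl | rfl | rfl | rfl | rfl | rfl | rfl | rfl
  · exact h5 (m := 2) rfl (by norm_num)
  · exact h3 (m := 4) rfl (by norm_num) (by norm_num)
  · exact h7 (by norm_num)
  · exact h5 (m := 3) rfl (by norm_num)
  · exact h9 (m := 2) rfl (by norm_num)
  · exact h5 (m := 4) rfl (by norm_num)
  · exact h7 (by norm_num)
  · exact h3 (m := 8) rfl (by norm_num) (by norm_num)
  · exact h7 (by norm_num)
  · exact h5 (m := 6) rfl (by norm_num)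

end CfsgLib.M11Uniq
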