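import Cfsg.Agent.SmallSimple.M11Uniq.Lines
import Cfsg.Agent.SmallSimple.M11Uniq.Orders
import Cfsg.Agent.SmallSimple.M11Uniq.Eleven

/-!
# Simple groups of order 7920 are isomorphic
-/

set_option autoImplicit false
set_option linter.style.haveILetI false
set_option linter.unusedSectionVars false

namespace CfsgLib.M11Uniq

open Subgroup MulAction CfsgLib.Order7920 CfsgLib.Order7920Classes CfsgLib.FixedPoints Eleven

variable {G : Type*} [Group G] [Finite G] [IsSimpleGroup G] (hG : Nat.card G = 7920)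
include hG

/-- A standard embedding in the symmetric group of degree eleven. -/
theorem exists_embedding : ∃ ι : G →* Equiv.Perm (ZMod 11),
    Function.Injective ι ∧ c0 ∈ ι.range ∧ y0 ∈ ι.range ∧ v0 ∈ ι.range := by
  classical
  haveI : Fact (Nat.Prime 11) := ⟨by norm_num⟩
  haveI : Fact (Nat.Prime 5) := ⟨by norm_num⟩
  obtain ⟨K, hK⟩ := exists_index_eleven hG
  have hKtop : K ≠ ⊤ := fun h => by rw [h, index_top] at hK; norm_num at hK
  have hKc : Nat.card K = 720 := by
    have := K.card_mul_index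
    rw [hK, hG] at this
    omega
  obtain ⟨x, hx⟩ := exists_prime_orderOf_dvd_card' 11 (show 11 ∣ Nat.card G by rw [hG]; norm_num)
  have hx11 : x ^ 11 = 1 := by rw [← hx]; exact pow_orderOf_eq_one x
  obtain ⟨g, hg⟩ := isConj_iff.1 (eleven_isConj hG hx)
  have hgN : g ∈ normalizer ((zpowers x : Subgroup G) : Set G) :=
    mem_normalizer_zpowers (hg ▸ pow_mem (mem_zpowers x) 3)
  have hg55 : g ^ 55 = 1 := by
    have h := orderOf_mem_dvd hgN
    rw [(eleven hG hx).2] at h
    exact orderOf_dvd_iff_pow_eq_one.1 h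
  have hiter : ∀ m : ℕ, g ^ m * x * (g ^ m)⁻¹ = x ^ (3 ^ m) := by
    intro m
    induction m with
    | zero => simp
    | succ m ih =>
      calc g ^ (m + 1) * x * (g ^ (m + 1))⁻¹ = g * (g ^ m * x * (g ^ m)⁻¹) * g⁻¹ := by
            rw [pow_succ']; group
        _ = (g * x * g⁻¹) ^ (3 ^ m) := by rw [ih, conj_pow]
        _ = _ := by rw [hg, ← pow_mul, ← pow_succ']
  set y := g ^ 11 with hy_def
  have hyx : y * x * y⁻¹ = x ^ 3 := by
    rw [hiter, ← pow_mod_orderOf, hx]
    norm_num
  have hy5 : orderOf y = 5 := by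
    refine orderOf_eq_prime (by rw [hy_def, ← pow_mul]; exact hg55) fun h => ?_
    rw [h, one_mul, inv_one, mul_one] at hyx
    have h2 : x ^ 2 = 1 := mul_left_cancel (a := x) (by rw [← pow_succ', mul_one]; exact hyx.symm)
    have := orderOf_dvd_of_pow_eq_one h2
    rw [hx] at this
    norm_num at this
  have hcardΩ : Nat.card (G ⧸ K) = 11 := by rw [← index_eq_card, hK]
  haveI := Fintype.ofFinite (G ⧸ K)
  -- `x` fixes no point
  have hxfix : ∀ (ω : G ⧸ K) (m : ℕ), ¬ 11 ∣ m → x ^ m • ω ≠ ω := by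
    intro ω m hm he
    obtain ⟨c, rfl⟩ := QuotientGroup.mk_surjective ω
    have h1 : c⁻¹ * (x ^ m * c) ∈ K := QuotientGroup.eq.1 he.symm
    have h2 := orderOf_mem_dvd h1
    rw [hKc] at h2
    have h3 : orderOf (c⁻¹ * (x ^ m * c)) = 11 := by
      rw [show c⁻¹ * (x ^ m * c) = MulAut.conj c⁻¹ (x ^ m) by simp [mul_assoc], MulEquiv.orderOf_eq,
        orderOf_pow, hx, Nat.Coprime.gcd_eq_one
          ((Nat.Prime.coprime_iff_not_dvd (by norm_num)).2 hm), Nat.div_one]
    rw [h3] at h2
    norm_num at h2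
  obtain ⟨b, hb⟩ : ∃ b : G ⧸ K, y • b = b := by
    by_contra h
    push Not at h
    have h2 := Equiv.Perm.card_compl_support_modEq (p := 5) (n := 1)
      (σ := MulAction.toPermHom G (G ⧸ K) y)
      (by rw [pow_one, ← map_pow, ← hy5, pow_orderOf_eq_one, map_one])
    have he : ((MulAction.toPermHom G (G ⧸ K) y).support)ᶜ = (∅ : Finset _) := by
      ext W
      simp only [Finset.mem_compl, Equiv.Perm.mem_support, not_not, Finset.notMem_empty, iff_false]
      exact h W
    rw [he, Finset.card_empty, ← Nat.card_eq_fintype_card, hcardΩ] at h2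
    simp [Nat.ModEq] at h2
  -- the labelling
  let f : ZMod 11 → G ⧸ K := fun i => x ^ i.val • b
  have hpow : ∀ {m m' : ℕ}, (m : ZMod 11) = (m' : ZMod 11) → x ^ m = x ^ m' := fun {m m'} h =>
    pow_eq_pow_iff_modEq.2 (by rw [hx]; exact (ZMod.natCast_eq_natCast_iff _ _ _).1 h)
  have hf : Function.Injective f := by
    intro i j h
    by_contra hne
    refine hxfix b ((i - j).val) ?_ ?_
    · intro hd
      refine hne (sub_eq_zero.1 ?_)
      rw [← ZMod.natCast_zmod_val (i - j)]
      exact (ZMod.natCast_eq_zero_iff _ _).2 hd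
    · refine smul_left_cancel (x ^ j.val) ?_
      rw [smul_smul, ← pow_add]
      rw [hpow (m := j.val + (i - j).val) (m' := i.val) (by push_cast [ZMod.natCast_zmod_val]; ring)]
      exact h
  have hbij : Function.Bijective f := (Fintype.bijective_iff_injective_and_card f).2 ⟨hf, by
    rw [← Nat.card_eq_fintype_card, ← Nat.card_eq_fintype_card, hcardΩ, Nat.card_zmod]⟩
  let e := Equiv.ofBijective f hbij
  let ι : G →* Equiv.Perm (ZMod 11) :=
    e.symm.permCongrHom.toMonoidHom.comp (MulAction.toPermHom G (G ⧸ K))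
  have hinj : Function.Injective ι :=
    e.symm.permCongrHom.injective.comp (SmallSimple.cosetHom_injective K hKtop)
  have hι : ∀ (a : G) (i j : ZMod 11), a • f i = f j → ι a i = j := fun a i j h => by
    change e.symm (a • e i) = j
    rw [Equiv.symm_apply_eq]
    exact h
  have hιx : ι x = c0 := Equiv.ext fun i => hι x i _ (by
    change x • (x ^ i.val • b) = x ^ (i + 1).val • b
    rw [smul_smul, ← pow_succ']
    congr 1
    exact hpow (by push_cast [ZMod.natCast_zmod_val]; ring))
  have hyconj : ∀ m : ℕ, y * x ^ m = x ^ (3 * m) * y := fun m => by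
    rw [pow_mul, ← hyx, conj_pow, inv_mul_cancel_right]
  have hιy : ι y = y0 := Equiv.ext fun i => hι y i _ (by
    change y • (x ^ i.val • b) = x ^ (3 * i).val • b
    rw [smul_smul, hyconj, mul_smul, hb]
    congr 1
    exact hpow (by push_cast [ZMod.natCast_zmod_val]; ring))
  -- an element inducing squaring on `⟨y⟩`
  obtain ⟨v, hv⟩ := isConj_iff.1 (five_isConj hG hy5 (j := 2) (by norm_num))
  have hv3 : ∀ i, ι v (3 * i) = 9 * ι v i := fun i => by
    have h : ι v * ι y = ι y ^ 2 * ι v := by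
      rw [← map_pow, ← map_mul, ← map_mul, ← hv, inv_mul_cancel_right]
    rw [hιy] at h
    have h2 := Equiv.Perm.ext_iff.1 h i
    simp only [Equiv.Perm.mul_apply, sq] at h2
    change ι v (y0 i) = _
    rw [h2]
    change 3 * (3 * ι v i) = _
    rw [← mul_assoc]
    congr 1
  have hv0 : ι v 0 = 0 := by
    have h := hv3 0
    rw [mul_zero] at h
    have h2 : (8 : ZMod 11) * ι v 0 = 0 := by linear_combination -h
    exact (mul_eq_zero.1 h2).resolve_left fun h8 =>
      (show ¬ ((8 : Fin 11) = 0) by decide) h8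
  have hvf : ⇑(ι v) = vfun (ι v 1) (ι v 2) := eq_vfun hv0 hv3
  have hcls := classified_all
  simp only [List.all_eq_true] at hcls
  have hc := hcls (ι v 1) (mem_univList _) (ι v 2) (mem_univList _)
  simp only [classified, Bool.or_eq_true, List.any_eq_true, Bool.and_eq_true, bne_iff_ne,
    beq_iff_eq, List.all_eq_true] at hc
  rcases hc with (⟨i, -, j, -, hij, he⟩ | ⟨i, -, n, hn, hord⟩) | ⟨m, -, m', -, hmm, hm⟩
  · rw [← hvf] at he
    exact absurd ((ι v).injective he) hij
  · have hn0 : 0 < n := by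
      simp only [List.mem_cons, List.not_mem_nil, or_false] at hn
      omega
    have h := orderOf_of_isOrd (p := ι (x ^ i.val * v))
      (f := fun z => vfun (ι v 1) (ι v 2) z + i) (fun z => by
        rw [map_mul, map_pow, hιx, Equiv.Perm.mul_apply, c0_pow, ZMod.natCast_zmod_val]
        exact congrArg (· + i) (congrFun hvf z)) hn0 hord
    rw [orderOf_injective ι hinj] at h
    exact absurd h (no_bad_order hG hn _)
  · let σ : Equiv.Perm (ZMod 11) := ⟨fun i => m * i, fun i => m' * i,
      fun i => by simp only [← mul_assoc, mul_comm m' m, hmm, one_mul],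
      fun i => by simp only [← mul_assoc, hmm, one_mul]⟩
    let ι' : G →* Equiv.Perm (ZMod 11) := (MulAut.conj σ).toMonoidHom.comp ι
    have hι' : ∀ a i, ι' a i = m * ι a (m' * i) := fun a i => rfl
    refine ⟨ι', (MulAut.conj σ).injective.comp hinj, ⟨x ^ m'.val, ?_⟩, ⟨y, ?_⟩, ⟨v, ?_⟩⟩
    · refine Equiv.ext fun i => ?_
      rw [hι', map_pow, hιx, c0_pow, ZMod.natCast_zmod_val]
      change m * (m' * i + m') = i + 1
      linear_combination (i + 1) * hmm
    · refine Equiv.ext fun i => ?_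
      rw [hι', hιy]
      change m * (3 * (m' * i)) = 3 * i
      linear_combination 3 * i * hmm
    · refine Equiv.ext fun i => ?_
      rw [hι', hvf]
      exact hm i (mem_univList i)

/-- The standard group is the image. -/
theorem nonempty_equiv_std : Nonempty (G ≃* std) := by
  haveI : Fact (Nat.Prime 11) := ⟨by norm_num⟩
  obtain ⟨ι, hinj, ⟨x, hx⟩, ⟨y, hy⟩, ⟨v, hv⟩⟩ := exists_embedding hG
  set L := std.comap ι with hL
  have hle : std ≤ ι.range := (closure_le _).2 (by
    rintro s (rfl | rfl | rfl)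
    exacts [⟨x, hx⟩, ⟨y, hy⟩, ⟨v, hv⟩])
  suffices h : L = ⊤ by
    have he : ι.range = std := le_antisymm (by
      rintro _ ⟨a, rfl⟩
      exact mem_comap.1 (h ▸ mem_top a : a ∈ L)) hle
    exact ⟨(MonoidHom.ofInjective hinj).trans (MulEquiv.subgroupCongr he)⟩
  by_contra hne
  have hxL : x ∈ L := mem_comap.2 (hx ▸ subset_closure (Set.mem_insert _ _))
  have hyL : y ∈ L := mem_comap.2
    (hy ▸ subset_closure (Set.mem_insert_of_mem _ (Set.mem_insert _ _)))
  have hvL : v ∈ L := mem_comap.2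
    (hv ▸ subset_closure (Set.mem_insert_of_mem _ (Set.mem_insert_of_mem _ rfl)))
  have hxo : orderOf x = 11 := by rw [← orderOf_injective ι hinj, hx, orderOf_c0]
  have hyo : orderOf y = 5 := by rw [← orderOf_injective ι hinj, hy, orderOf_y0]
  have hwo : orderOf (x ^ 2 * v) = 8 := by
    rw [← orderOf_injective ι hinj, map_mul, map_pow, hx, hv, orderOf_eight]
  have h11 := hxo ▸ orderOf_mem_dvd hxL
  have h5 := hyo ▸ orderOf_mem_dvd hyL
  have h8 := hwo ▸ orderOf_mem_dvd (L.mul_mem (L.pow_mem hxL 2) hvL)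
  have h440 : 440 ∣ Nat.card L := by
    have := Nat.Coprime.mul_dvd_of_dvd_of_dvd (by norm_num)
      (Nat.Coprime.mul_dvd_of_dvd_of_dvd (by norm_num : Nat.Coprime 11 5) h11 h5) h8
    exact this
  have hle720 := card_le hG hne
  obtain ⟨k, hk11, hk⟩ := exists_count (sq_eleven hG) hxo hxL
  have hN := (eleven hG hxo).2
  have hyN : y ∈ normalizer ((zpowers x : Subgroup G) : Set G) := mem_normalizer_zpowers (by
    have h : y * x * y⁻¹ = x ^ 3 := hinj (by rw [map_mul, map_mul, map_inv, map_pow, hx, hy, y0_c0])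
    rw [h]
    exact pow_mem (mem_zpowers x) 3)
  set D := normalizer ((zpowers x : Subgroup G) : Set G) ⊓ L
  have hd1 : 11 ∣ Nat.card D := hxo ▸ orderOf_mem_dvd (mem_inf.2 ⟨le_normalizer (mem_zpowers x), hxL⟩)
  have hd2 : 5 ∣ Nat.card D := hyo ▸ orderOf_mem_dvd (mem_inf.2 ⟨hyN, hyL⟩)
  have hd3 : Nat.card D ∣ 55 := hN ▸ card_dvd_of_le inf_le_left
  have hD : Nat.card D = 55 := Nat.dvd_antisymm hd3
    (Nat.Coprime.mul_dvd_of_dvd_of_dvd (by norm_num : Nat.Coprime 11 5) hd1 hd2)
  rw [hD] at hk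
  have hpos := Nat.card_pos (α := L)
  obtain ⟨q, hq⟩ := h440
  omega

omit hG in
/-- Two simple groups of order 7920 are isomorphic. -/
theorem nonempty_equiv {H : Type*} [Group H] [Finite H] [IsSimpleGroup H] (hH : Nat.card H = 7920)
    (hG : Nat.card G = 7920) : Nonempty (G ≃* H) := by
  obtain ⟨e⟩ := nonempty_equiv_std hG
  obtain ⟨e'⟩ := nonempty_equiv_std hH
  exact ⟨e.trans e'.symm⟩

end CfsgLib.M11Uniq
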