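import Cfsg.Agent.SmallSimple.M11Uniq.Suborbit

/-!
# The shape of the neighbourhood
-/

set_option autoImplicit false
set_option linter.style.haveILetI false
set_option linter.unusedSectionVars false

namespace CfsgLib.M11Uniq

open Subgroup MulAction CfsgLib.Order7920 CfsgLib.Order7920Classes Finset

variable {G : Type*} [Group G] [Finite G]

/-- The part of `X` is a clique. -/
def Full (P X : Sylow 3 G) : Prop := ∀ V ∈ part P X, ∀ W ∈ part P X, V ≠ W → Adj V W

/-- The part of `X` has no edges. -/
def Empty (P X : Sylow 3 G) : Prop := ∀ V ∈ part P X, ∀ W ∈ part P X, ¬ Adj V W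

/-- The two parts are completely joined. -/
def Cross (P X : Sylow 3 G) : Prop :=
  ∀ V ∈ part P X, ∀ W ∈ nb P, W ∉ part P X → Adj V W

/-- The two parts are joined by a matching. -/
def Matched (P X : Sylow 3 G) : Prop :=
  ∀ V ∈ part P X, ∀ W ∈ nb P, ∀ W' ∈ nb P, W ∉ part P X → W' ∉ part P X →
    Adj V W → Adj V W' → W = W'

theorem full_smul {P X : Sylow 3 G} (g : G) (h : Full P X) : Full (g • P) (g • X) := by
  intro V hV W hW hne
  obtain ⟨V, rfl⟩ : ∃ V', g • V' = V := ⟨g⁻¹ • V, smul_inv_smul _ _⟩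
  obtain ⟨W, rfl⟩ : ∃ W', g • W' = W := ⟨g⁻¹ • W, smul_inv_smul _ _⟩
  exact (adj_smul g).2 (h V ((smul_mem_part_iff g).1 hV) W ((smul_mem_part_iff g).1 hW)
    fun e => hne (by rw [e]))

theorem cross_smul {P X : Sylow 3 G} (g : G) (h : Cross P X) : Cross (g • P) (g • X) := by
  intro V hV W hW hne
  obtain ⟨V, rfl⟩ : ∃ V', g • V' = V := ⟨g⁻¹ • V, smul_inv_smul _ _⟩
  obtain ⟨W, rfl⟩ : ∃ W', g • W' = W := ⟨g⁻¹ • W, smul_inv_smul _ _⟩
  refine (adj_smul g).2 (h V ((smul_mem_part_iff g).1 hV) W ?_ fun e => hne (smul_mem_part g e))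
  exact mem_nb.2 ((adj_smul g).1 (mem_nb.1 hW))

theorem self_not_mem_nb (P : Sylow 3 G) : P ∉ nb P := fun h => (mem_nb.1 h).1 rfl

variable [IsSimpleGroup G] (hG : Nat.card G = 7920)
include hG

theorem edge_transitive {P X : Sylow 3 G} (hX : Adj P X) {P' X' : Sylow 3 G} (hX' : Adj P' X') :
    ∃ g : G, g • P = P' ∧ g • X = X' := by
  haveI : Fact (Nat.Prime 3) := ⟨Nat.prime_three⟩
  obtain ⟨g, hg⟩ := exists_move hG P P'
  obtain ⟨n, hn, hnX⟩ := adj_transitive hG (P := P') (X := g • X) (hg ▸ (adj_smul g).2 hX) hX'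
  exact ⟨n * g, by rw [mul_smul, hg]; exact mem_nrm.1 hn, by rw [mul_smul, hnX]⟩

theorem full_global {P X : Sylow 3 G} (hX : Adj P X) (h : Full P X) {P' X' : Sylow 3 G}
    (hX' : Adj P' X') : Full P' X' := by
  obtain ⟨g, rfl, rfl⟩ := edge_transitive hG hX hX'
  exact full_smul g h

theorem cross_global {P X : Sylow 3 G} (hX : Adj P X) (h : Cross P X) {P' X' : Sylow 3 G}
    (hX' : Adj P' X') : Cross P' X' := by
  obtain ⟨g, rfl, rfl⟩ := edge_transitive hG hX hX'
  exact cross_smul g h

theorem full_or_empty {P X : Sylow 3 G} (hX : Adj P X) : Full P X ∨ Empty P X := by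
  haveI : Fact (Nat.Prime 3) := ⟨Nat.prime_three⟩
  by_cases h : Empty P X
  · exact Or.inr h
  left
  simp only [Empty, not_forall, not_not] at h
  obtain ⟨V, hV, W, hW, hVW⟩ := h
  -- translate the edge to `X`
  have hkey : ∀ {A B : Sylow 3 G}, A ∈ part P X → B ∈ part P X → A ≠ B →
      ∃ q : G, ∃ B' : Sylow 3 G, q • X = A ∧ q • B' = B ∧ B' ∈ part P X ∧ B' ≠ X := by
    intro A B hA hB hne
    obtain ⟨q, hq, hqA⟩ := mem_part.1 hA
    refine ⟨q, q⁻¹ • B, hqA, smul_inv_smul _ _, ?_, fun e => hne ?_⟩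
    · obtain ⟨r, hr, hrB⟩ := mem_part.1 hB
      exact mem_part.2 ⟨q⁻¹ * r, mul_mem (inv_mem hq) hr, by rw [mul_smul, hrB]⟩
    · rw [← hqA, ← e, smul_inv_smul]
  obtain ⟨q, W', hqV, hqW, hW', hW'X⟩ := hkey hV hW hVW.1.symm
  have hXW' : Adj X W' := (adj_smul q).1 (by rw [hqV, hqW]; exact hVW)
  intro A hA B hB hne
  obtain ⟨r, B', hrA, hrB, hB', hB'X⟩ := hkey hA hB hne
  obtain ⟨a, ha, haW⟩ := regular hG hX hW' hW'X hB' hB'X
  have h2 := (adj_smul a).2 hXW'
  rw [mem_nrm.1 ha.2, haW] at h2
  rw [← hrA, ← hrB]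
  exact (adj_smul r).2 h2

theorem cross_or_matched {P X : Sylow 3 G} (hX : Adj P X) : Cross P X ∨ Matched P X := by
  haveI : Fact (Nat.Prime 3) := ⟨Nat.prime_three⟩
  obtain ⟨Y, hY, hYX, hH, hsplit, -⟩ := third hG hX
  have htr : ∀ {V W : Sylow 3 G}, V ∈ part P X → W ∈ nb P → W ∉ part P X →
      ∃ q ∈ (P : Subgroup G), ∃ W' : Sylow 3 G, q • X = V ∧ q • W' = W ∧ W' ∈ part P Y := by
    intro V W hV hW hWX
    obtain ⟨q, hq, hqV⟩ := mem_part.1 hV
    obtain ⟨r, hr, hrW⟩ := mem_part.1 ((hsplit W hW).resolve_left hWX)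
    exact ⟨q, hq, q⁻¹ • W, hqV, smul_inv_smul _ _,
      mem_part.2 ⟨q⁻¹ * r, mul_mem (inv_mem hq) hr, by rw [mul_smul, hrW]⟩⟩
  by_cases hsome : ∃ W ∈ part P Y, W ≠ Y ∧ Adj X W
  · left
    obtain ⟨W₀, hW₀, hW₀Y, hadj⟩ := hsome
    have hall : ∀ W ∈ part P Y, Adj X W := by
      intro W hW
      by_cases hWY : W = Y
      · exact hWY ▸ third_adj hG hX hY hYX hH
      · obtain ⟨a, ha, haW⟩ := regular hG hY hW₀ hW₀Y hW hWY
        have h2 := (adj_smul a).2 hadj
        rwa [mem_nrm.1 (hH.le ha).2, haW] at h2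
    intro V hV W hW hWX
    obtain ⟨q, -, W', hqV, hqW, hW'⟩ := htr hV hW hWX
    rw [← hqV, ← hqW]
    exact (adj_smul q).2 (hall W' hW')
  · right
    push Not at hsome
    intro V hV W hW W₁ hW₁ hWX hW₁X hVW hVW₁
    have hone : ∀ {W}, W ∈ nb P → W ∉ part P X → Adj V W → ∀ q ∈ (P : Subgroup G), q • X = V →
        W = q • Y := by
      intro W hW hWX hVW q hq hqV
      obtain ⟨r, hr, W', hrV, hrW, hW'⟩ := htr hV hW hWX
      have hXW' : Adj X W' := (adj_smul r).1 (by rw [hrV, hrW]; exact hVW)
      have hWY : W' = Y := by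
        by_contra h
        exact hsome W' hW' h hXW'
      have hqr : q⁻¹ * r = 1 := free hG P hX.1 (mul_mem (inv_mem hq) hr)
        (by rw [mul_smul, hrV, ← hqV, inv_smul_smul])
      rw [← hrW, hWY, inv_mul_eq_one.1 hqr]
    obtain ⟨q, hq, hqV⟩ := mem_part.1 hV
    rw [hone hW hWX hVW q hq hqV, hone hW₁ hW₁X hVW₁ q hq hqV]

theorem card_dvd_of_blocks (D : Sylow 3 G → Finset (Sylow 3 G)) {m : ℕ}
    (hcard : ∀ P, (D P).card = m) (hself : ∀ P, P ∈ D P) (heq : ∀ P, ∀ x ∈ D P, D x = D P) :
    m ∣ 55 := by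
  classical
  refine ⟨(univ.image D).card, ?_⟩
  have h := card_eq_sum_card_image D (univ : Finset (Sylow 3 G))
  rw [card_univ, ← Nat.card_eq_fintype_card, card_omega hG] at h
  rw [h, Finset.sum_congr rfl fun b hb => ?_, sum_const, smul_eq_mul, mul_comm]
  obtain ⟨P, -, rfl⟩ := mem_image.1 hb
  rw [← hcard P]
  congr 1
  ext x
  simp only [mem_filter, mem_univ, true_and]
  exact ⟨fun h => h ▸ hself x, heq P x⟩

/-- The parts are not both cliques and completely joined. -/
theorem not_complete (hF : ∀ {P X : Sylow 3 G}, Adj P X → Full P X)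
    (hC : ∀ {P X : Sylow 3 G}, Adj P X → Cross P X) : False := by
  classical
  have h := card_dvd_of_blocks hG (fun P => insert P (nb P)) (m := 19)
    (fun P => by rw [card_insert_of_notMem (self_not_mem_nb P), card_nb hG])
    (fun P => mem_insert_self _ _) fun P x hx => by
      rcases mem_insert.1 hx with rfl | hx
      · rfl
      have hPx := mem_nb.1 hx
      refine (eq_of_subset_of_card_le (fun W hW => ?_) (by
        rw [card_insert_of_notMem (self_not_mem_nb x), card_nb hG,
          card_insert_of_notMem (self_not_mem_nb P), card_nb hG])).symm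
      rcases mem_insert.1 hW with rfl | hW
      · exact mem_insert_of_mem (mem_nb.2 hPx.symm)
      · by_cases hWx : W = x
        · exact hWx ▸ mem_insert_self _ _
        · refine mem_insert_of_mem (mem_nb.2 ?_)
          by_cases hWp : W ∈ part P x
          · exact hF hPx x (self_mem_part P x) W hWp (Ne.symm hWx)
          · exact hC hPx x (self_mem_part P x) W hW hWp
  norm_num at h

/-- The parts are not completely joined without inner edges. -/
theorem not_tripartite (hE : ∀ {P X : Sylow 3 G}, Adj P X → Empty P X)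
    (hC : ∀ {P X : Sylow 3 G}, Adj P X → Cross P X) : False := by
  classical
  -- the neighbours of `x` in the part of `P` and the part opposite to `x`
  have key : ∀ {P X Y : Sylow 3 G}, Adj P X → Adj P Y → Y ∉ part P X →
      part P Y ⊆ nb X \ part X P := by
    intro P X Y hX hY hYX W hW
    have hWnb := part_subset_nb hG hY hW
    have hWX : W ∉ part P X := fun h => hYX (by
      rw [← part_eq h, part_eq hW]; exact self_mem_part P Y)
    exact mem_sdiff.2 ⟨mem_nb.2 (hC hX X (self_mem_part P X) W hWnb hWX), fun h =>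
      hE hX.symm P (self_mem_part X P) W h (mem_nb.1 hWnb)⟩
  have keyeq : ∀ {P X Y : Sylow 3 G}, Adj P X → Adj P Y → Y ∉ part P X →
      nb X = part X P ∪ part P Y := by
    intro P X Y hX hY hYX
    rw [eq_of_subset_of_card_le (key hX hY hYX) (by
      rw [card_sdiff_of_subset (part_subset_nb hG hX.symm), card_nb hG, card_part hG hX.1.symm,
        card_part hG hY.1]), union_sdiff_of_subset (part_subset_nb hG hX.symm)]
  have h := card_dvd_of_blocks hG (fun P => (nb P).biUnion nb ∪ nb P) (m := 27) ?_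
    (fun P => ?_) ?_
  · norm_num at h
  swap
  · obtain ⟨X, hX⟩ := exists_adj hG P
    exact mem_union_left _ (mem_biUnion.2 ⟨X, mem_nb.2 hX, mem_nb.2 hX.symm⟩)
  all_goals
    intro P
    obtain ⟨X, hX⟩ := exists_adj hG P
    obtain ⟨Y, hY, hYX, -, hsplit, -⟩ := third hG hX
    have hXY : X ∉ part P Y := fun h => hYX (by rw [part_eq h]; exact self_mem_part P Y)
    set A := part P X with hA
    set B := part P Y with hB
    set C := part X P with hC'
    have hnP : nb P = A ∪ B := subset_antisymm
      (fun W hW => mem_union.2 (hsplit W hW))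
      (union_subset (part_subset_nb hG hX) (part_subset_nb hG hY))
    have hAB : Disjoint A B := Finset.disjoint_left.2 fun W hWA hWB => hXY (by
      rw [hB, ← part_eq (show W ∈ part P Y from hWB), part_eq (show W ∈ part P X from hWA)]
      exact self_mem_part P X)
    have hnA : nb X = C ∪ B := keyeq hX hY hYX
    have hCA : Disjoint C A := Finset.disjoint_left.2 fun W hWC hWA =>
      hE hX X (self_mem_part P X) W hWA (mem_nb.1 (part_subset_nb hG hX.symm hWC))
    have hCB : Disjoint C B := Finset.disjoint_left.2 fun W hWC hWB =>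
      (mem_sdiff.1 (key hX hY hYX hWB)).2 hWC
    -- everything between two parts is joined
    have hCBj : ∀ c ∈ C, ∀ b ∈ B, Adj c b := fun c hc b hb =>
      hC hX.symm c hc b (mem_sdiff.1 (key hX hY hYX hb)).1 (mem_sdiff.1 (key hX hY hYX hb)).2
    have hABj : ∀ a ∈ A, ∀ b ∈ B, Adj a b := fun a ha b hb =>
      hC hX a ha b (part_subset_nb hG hY hb) fun h => Finset.disjoint_left.1 hAB h hb
    have hnB : ∀ b ∈ B, nb b = C ∪ A := fun b hb => (eq_of_subset_of_card_le
      (union_subset (fun c hc => mem_nb.2 (hCBj c hc b hb).symm)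
        fun a ha => mem_nb.2 (hABj a ha b hb).symm)
      (by rw [card_nb hG, card_union_of_disjoint hCA, hC', hA, card_part hG hX.1.symm,
        card_part hG hX.1])).symm
    have hCAj : ∀ c ∈ C, ∀ a ∈ A, Adj c a := by
      intro c hc a ha
      have hPa : Adj P a := mem_nb.1 (part_subset_nb hG hX ha)
      have hYa : Y ∉ part P a := by rwa [part_eq ha]
      have hCa : part a P = C := by
        have h1 := key hPa hY hYa
        have h2 : nb Y = part Y P ∪ part P a := keyeq hY hPa (by
          intro h; exact Finset.disjoint_left.1 hAB ha h)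
        rw [hnB Y (self_mem_part P Y), part_eq ha, ← hA] at h2
        have h3 : part Y P = C := by
          ext W
          have hd : W ∈ part Y P → W ∉ A := fun hW hWA =>
            (mem_sdiff.1 (key hY hX hXY hWA)).2 hW
          have h4 := Finset.ext_iff.1 h2 W
          simp only [mem_union] at h4
          constructor
          · intro hW; exact (h4.2 (Or.inl hW)).resolve_right (hd hW)
          · intro hW; exact (h4.1 (Or.inl hW)).resolve_right (Finset.disjoint_left.1 hCA hW)
        -- both are the part of `P` at `a` seen from `Y`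
        have h5 : nb a = part a P ∪ B := keyeq hPa hY hYa
        have h6 : part a P ⊆ C := fun W hW => by
          have hWY : Adj Y W := (hC hPa.symm W hW Y (mem_sdiff.1 (key hPa hY hYa (self_mem_part P Y))).1
            (mem_sdiff.1 (key hPa hY hYa (self_mem_part P Y))).2).symm
          have hW' := mem_nb.2 hWY
          rw [hnB Y (self_mem_part P Y), mem_union] at hW'
          refine hW'.resolve_right fun hWA => ?_
          exact hE hX a ha W hWA (mem_nb.1 (part_subset_nb hG hPa.symm hW))
        exact eq_of_subset_of_card_le h6 (by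
          rw [hC', card_part hG hX.1.symm, card_part hG hPa.1.symm])
      exact (mem_nb.1 (part_subset_nb hG hPa.symm (hCa.symm ▸ hc))).symm
    have hnA' : ∀ a ∈ A, nb a = C ∪ B := fun a ha => (eq_of_subset_of_card_le
      (union_subset (fun c hc => mem_nb.2 (hCAj c hc a ha).symm) fun b hb => mem_nb.2 (hABj a ha b hb))
      (by rw [card_nb hG, card_union_of_disjoint hCB, hC', hB, card_part hG hX.1.symm,
        card_part hG hY.1])).symm
    have hnC : ∀ c ∈ C, nb c = A ∪ B := fun c hc => (eq_of_subset_of_card_le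
      (union_subset (fun a ha => mem_nb.2 (hCAj c hc a ha)) fun b hb => mem_nb.2 (hCBj c hc b hb))
      (by rw [card_nb hG, card_union_of_disjoint hAB, hA, hB, card_part hG hX.1,
        card_part hG hY.1])).symm
    have hXA : X ∈ A := self_mem_part P X
    have hYB : Y ∈ B := self_mem_part P Y
    have hPC : P ∈ C := self_mem_part X P
    have hall : ∀ x, x ∈ C ∨ x ∈ A ∨ x ∈ B → (nb x).biUnion nb ∪ nb x = C ∪ A ∪ B := by
      intro x hx
      have hsub : ∀ w, (nb w).biUnion nb ⊆ C ∪ A ∪ B → nb w ⊆ C ∪ A ∪ B →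
          (nb w).biUnion nb ∪ nb w ⊆ C ∪ A ∪ B := fun w h1 h2 => union_subset h1 h2
      have hnsub : ∀ w, w ∈ C ∨ w ∈ A ∨ w ∈ B → nb w ⊆ C ∪ A ∪ B := by
        intro w hw W hW
        rcases hw with h | h | h
        · rw [hnC w h] at hW; simp only [mem_union] at hW ⊢; tauto
        · rw [hnA' w h] at hW; simp only [mem_union] at hW ⊢; tauto
        · rw [hnB w h] at hW; simp only [mem_union] at hW ⊢; tauto
      refine subset_antisymm (hsub x (biUnion_subset.2 fun w hw => hnsub w ?_) (hnsub x hx)) ?_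
      · have := hnsub x hx hw
        simp only [mem_union] at this
        tauto
      · intro W hW
        simp only [mem_union, mem_biUnion] at hW ⊢
        rcases hx with h | h | h
        · rw [hnC x h]
          rcases hW with (hW | hW) | hW
          · exact Or.inl ⟨X, mem_union_left _ hXA, by rw [hnA' X hXA]; exact mem_union_left _ hW⟩
          · exact Or.inr (mem_union_left _ hW)
          · exact Or.inr (mem_union_right _ hW)
        · rw [hnA' x h]
          rcases hW with (hW | hW) | hW
          · exact Or.inr (mem_union_left _ hW)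
          · exact Or.inl ⟨Y, mem_union_right _ hYB, by rw [hnB Y hYB]; exact mem_union_right _ hW⟩
          · exact Or.inr (mem_union_right _ hW)
        · rw [hnB x h]
          rcases hW with (hW | hW) | hW
          · exact Or.inr (mem_union_left _ hW)
          · exact Or.inr (mem_union_right _ hW)
          · exact Or.inl ⟨P, mem_union_left _ hPC, by rw [hnC P hPC]; exact mem_union_right _ hW⟩
    have hD := hall P (Or.inl hPC)
  · show ((nb P).biUnion nb ∪ nb P).card = 27
    rw [hD, card_union_of_disjoint (disjoint_union_left.2 ⟨hCB, hAB⟩), card_union_of_disjoint hCA,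
      hA, hB, hC', card_part hG hX.1, card_part hG hY.1, card_part hG hX.1.symm]
  · intro x hx
    have hx' : x ∈ (nb P).biUnion nb ∪ nb P := hx
    rw [hD, mem_union, mem_union, or_assoc] at hx'
    show (nb x).biUnion nb ∪ nb x = _
    rw [hall x hx', hD]

end CfsgLib.M11Uniq
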