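import Cfsg.Agent.SmallSimple.M11Uniq.Srg
import Mathlib.Algebra.Group.Pointwise.Finset.Basic

/-!
# Eleven lines, hence a subgroup of index eleven
-/

set_option autoImplicit false
set_option linter.style.haveILetI false
set_option linter.unusedSectionVars false

namespace CfsgLib.M11Uniq

open Subgroup MulAction CfsgLib.Order7920 CfsgLib.Order7920Classes Finset
open scoped Classical Pointwise

variable {G : Type*} [Group G] [Finite G]

/-- The line of an edge. -/
noncomputable def line (P X : Sylow 3 G) : Finset (Sylow 3 G) := insert P (part P X)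

theorem smul_line (g : G) (P X : Sylow 3 G) : g • line P X = line (g • P) (g • X) := by
  rw [Finset.smul_finset_def]
  ext W
  simp only [line, mem_image, mem_insert]
  constructor
  · rintro ⟨V, hV, rfl⟩
    rcases hV with rfl | hV
    · exact Or.inl rfl
    · exact Or.inr (smul_mem_part g hV)
  · intro h
    refine ⟨g⁻¹ • W, ?_, smul_inv_smul _ _⟩
    rcases h with rfl | h
    · exact Or.inl (inv_smul_smul _ _)
    · exact Or.inr ((smul_mem_part_iff g).1 (by rwa [smul_inv_smul]))

variable [IsSimpleGroup G] (hG : Nat.card G = 7920)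
include hG

theorem self_not_mem_part {P X : Sylow 3 G} (hX : Adj P X) : P ∉ part P X := fun h =>
  self_not_mem_nb P (part_subset_nb hG hX h)

/-- Parts are cliques and are joined by matchings. -/
theorem full_matched : (∀ {P X : Sylow 3 G}, Adj P X → Full P X) ∧
    ∀ {P X : Sylow 3 G}, Adj P X → Matched P X := by
  obtain ⟨P₀⟩ : Nonempty (Sylow 3 G) := inferInstance
  obtain ⟨X₀, hX₀⟩ := exists_adj hG P₀
  have hnF : ¬ Full P₀ X₀ → ∀ {P X : Sylow 3 G}, Adj P X → Empty P X := fun h _ _ hX =>
    (full_or_empty hG hX).resolve_left fun h' => h (full_global hG hX h' hX₀)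
  have hnC : ¬ Cross P₀ X₀ → ∀ {P X : Sylow 3 G}, Adj P X → Matched P X := fun h _ _ hX =>
    (cross_or_matched hG hX).resolve_left fun h' => h (cross_global hG hX h' hX₀)
  by_cases hF : Full P₀ X₀ <;> by_cases hC : Cross P₀ X₀
  · exact (not_complete hG (fun hX => full_global hG hX₀ hF hX)
      (fun hX => cross_global hG hX₀ hC hX)).elim
  · exact ⟨fun hX => full_global hG hX₀ hF hX, hnC hC⟩
  · exact (not_tripartite hG (hnF hF) (fun hX => cross_global hG hX₀ hC hX)).elim
  · exact (not_matched_empty hG (hnF hF) (hnC hC)).elim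

theorem card_line {P X : Sylow 3 G} (hX : Adj P X) : (line P X).card = 10 := by
  rw [line, card_insert_of_notMem (self_not_mem_part hG hX), card_part hG hX.1]

theorem line_comm {P X : Sylow 3 G} (hX : Adj P X) : line P X = line X P := by
  haveI : Fact (Nat.Prime 3) := ⟨Nat.prime_three⟩
  obtain ⟨hF, hM⟩ := full_matched hG
  refine eq_of_subset_of_card_le (insert_subset (mem_insert_of_mem (self_mem_part X P)) fun V hV => ?_)
    (by rw [card_line hG hX, card_line hG hX.symm])
  by_cases hVX : V = X
  · exact hVX ▸ mem_insert_self _ _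
  refine mem_insert_of_mem ?_
  by_contra hVp
  have hXV : Adj X V := hF hX X (self_mem_part P X) V hV (Ne.symm hVX)
  have hPV : Adj P V := mem_nb.1 (part_subset_nb hG hX hV)
  obtain ⟨Y, hY, hYP, hH, -, -⟩ := third hG hX.symm
  have hPY : Adj P Y := third_adj hG hX.symm hY hYP hH
  have hVY : V = Y := hM hX.symm P (self_mem_part X P) V (mem_nb.2 hXV) Y (mem_nb.2 hY) hVp hYP hPV hPY
  obtain ⟨z, hzH, -, hinv, -, -⟩ := exists_invol_eight hG P hX.1 hX.2
  refine hVX (eq_of_fixed hG hX.1 hinv (mem_nrm.1 hzH.2) hV ?_)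
  rw [hVY]
  exact mem_nrm.1 (hH.ge ⟨hzH.2, hzH.1⟩).2

/-- All lines. -/
noncomputable def lines (G : Type*) [Group G] [Finite G] : Finset (Finset (Sylow 3 G)) :=
  ((univ : Finset (Sylow 3 G × Sylow 3 G)).filter fun e => Adj e.1 e.2).image fun e => line e.1 e.2

omit [IsSimpleGroup G] hG in
theorem mem_lines {L : Finset (Sylow 3 G)} :
    L ∈ lines G ↔ ∃ P X, Adj P X ∧ line P X = L := by
  simp [lines]

theorem card_through (R : Sylow 3 G) : ((lines G).filter (R ∈ ·)).card = 2 := by
  obtain ⟨X, hX⟩ := exists_adj hG R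
  obtain ⟨Y, hY, hYX, -, hsplit, -⟩ := third hG hX
  have he : (lines G).filter (R ∈ ·) = {line R X, line R Y} := by
    ext L
    simp only [mem_filter, mem_lines, mem_insert, mem_singleton]
    constructor
    · rintro ⟨⟨P, Z, hZ, rfl⟩, hR⟩
      obtain ⟨W, hW, hLW⟩ : ∃ W, Adj R W ∧ line P Z = line R W := by
        rcases mem_insert.1 hR with rfl | hR
        · exact ⟨Z, hZ, rfl⟩
        · have hPR := mem_nb.1 (part_subset_nb hG hZ hR)
          exact ⟨P, hPR.symm, by rw [← line_comm hG hPR, line, line, part_eq hR]⟩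
      rw [hLW]
      rcases hsplit W (mem_nb.2 hW) with h | h
      · exact Or.inl (by rw [line, line, part_eq h])
      · exact Or.inr (by rw [line, line, part_eq h])
    · rintro (rfl | rfl)
      · exact ⟨⟨R, X, hX, rfl⟩, mem_insert_self _ _⟩
      · exact ⟨⟨R, Y, hY, rfl⟩, mem_insert_self _ _⟩
  rw [he, card_pair]
  intro h
  have hmem : Y ∈ line R X := h ▸ mem_insert_of_mem (self_mem_part R Y)
  rcases mem_insert.1 hmem with h' | h'
  · exact hY.1 h'
  · exact hYX h'

theorem card_lines : (lines G).card = 11 := by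
  have h := sum_card_bipartiteAbove_eq_sum_card_bipartiteBelow
    (fun (R : Sylow 3 G) L => R ∈ L) (s := univ) (t := lines G)
  simp only [bipartiteAbove, bipartiteBelow] at h
  rw [sum_congr rfl fun R _ => card_through hG R, sum_congr rfl fun L hL => show
    ((univ : Finset (Sylow 3 G)).filter (· ∈ L)).card = 10 by
      obtain ⟨P, X, hX, rfl⟩ := mem_lines.1 hL
      rw [← card_line hG hX]; congr 1; ext; simp,
    sum_const, sum_const, card_univ, ← Nat.card_eq_fintype_card, card_omega hG, smul_eq_mul,
    smul_eq_mul] at h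
  omega

/-- There is a subgroup of index eleven. -/
theorem exists_index_eleven : ∃ K : Subgroup G, K.index = 11 := by
  obtain ⟨P⟩ : Nonempty (Sylow 3 G) := inferInstance
  obtain ⟨X, hX⟩ := exists_adj hG P
  refine ⟨MulAction.stabilizer G (line P X), ?_⟩
  rw [MulAction.index_stabilizer, ← card_lines hG, ← Set.ncard_coe_finset]
  congr 1
  ext L
  rw [mem_coe, mem_lines]
  constructor
  · rintro ⟨g, rfl⟩
    exact ⟨g • P, g • X, (adj_smul g).2 hX, (smul_line g P X).symm⟩
  · rintro ⟨P', X', hX', rfl⟩
    obtain ⟨g, rfl, rfl⟩ := edge_transitive hG hX hX'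
    exact ⟨g, smul_line g P X⟩

end CfsgLib.M11Uniq
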