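import Cfsg.Agent.SmallSimple.Order7920Three
import Mathlib.GroupTheory.PGroup

/-!
# The action of a 2-group on a Sylow 3-subgroup in a simple group of order 7920
-/

set_option autoImplicit false
set_option linter.style.haveILetI false
set_option linter.unusedSectionVars false

namespace CfsgLib.M11Uniq

open Subgroup CfsgLib.Order7920 CfsgLib.Order7920Classes

/-- `t` inverts every element of `Q`. -/
def Inverts {G : Type*} [Group G] (t : G) (Q : Subgroup G) : Prop := ∀ q ∈ Q, t * q * t⁻¹ = q⁻¹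

variable {G : Type*} [Group G] [Finite G] [IsSimpleGroup G] (hG : Nat.card G = 7920)
include hG

theorem card_centralizer_invol {t : G} (ht : orderOf t = 2) :
    Nat.card (centralizer ({t} : Set G)) = 48 := by
  haveI : Fact (Nat.Prime 11) := ⟨by norm_num⟩
  haveI : Fact (Nat.Prime 5) := ⟨by norm_num⟩
  obtain ⟨a, ha⟩ := exists_prime_orderOf_dvd_card' 11 (show 11 ∣ Nat.card G by rw [hG]; norm_num)
  obtain ⟨b, hb⟩ := exists_prime_orderOf_dvd_card' 5 (show 5 ∣ Nat.card G by rw [hG]; norm_num)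
  exact (exists_invol hG ha hb ht).1

theorem sylow_comm (P : Sylow 3 G) {a b : G} (ha : a ∈ (P : Subgroup G)) (hb : b ∈ (P : Subgroup G)) :
    a * b = b * a := by
  haveI : Fact (Nat.Prime 3) := ⟨Nat.prime_three⟩
  exact congrArg Subtype.val ((IsPGroup.isMulCommutative_of_card_eq_prime_sq (p := 3)
    ((card_sylow_three hG P).trans (by norm_num))).is_comm.comm ⟨a, ha⟩ ⟨b, hb⟩)

theorem card_centralizer_three {u : G} (hu : orderOf u = 3) :
    Nat.card (centralizer ({u} : Set G)) ∣ 18 := by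
  haveI : Fact (Nat.Prime 3) := ⟨Nat.prime_three⟩
  obtain ⟨P, hP⟩ := (IsPGroup.of_card (n := 1) (by rw [Nat.card_zpowers, hu, pow_one]) :
    IsPGroup 3 (zpowers u)).exists_le_sylow
  have hle : (P : Subgroup G) ≤ centralizer ({u} : Set G) := fun g hg =>
    mem_centralizer_singleton_iff.2 (sylow_comm hG P hg (hP (mem_zpowers u)))
  have h9 : 9 ∣ Nat.card (centralizer ({u} : Set G)) := card_sylow_three hG P ▸ card_dvd_of_le hle
  have h18 := three_centralizer hG hu h9
  have hpos := Nat.card_pos (α := centralizer ({u} : Set G))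
  obtain ⟨m, hm⟩ := h9
  rw [hm] at h18 hpos ⊢
  rcases (show m = 1 ∨ m = 2 by omega) with rfl | rfl <;> norm_num

omit [IsSimpleGroup G] hG in
theorem exists_involution_pow {g : G} (h1 : g ≠ 1) {n : ℕ} (hn : g ^ 2 ^ n = 1) :
    ∃ m : ℕ, orderOf (g ^ m) = 2 := by
  obtain ⟨k, -, hk⟩ := (Nat.dvd_prime_pow Nat.prime_two).1 (orderOf_dvd_of_pow_eq_one hn)
  obtain ⟨j, rfl⟩ : ∃ j, k = j + 1 := by
    refine ⟨k - 1, (Nat.sub_add_cancel ?_).symm⟩
    rcases Nat.eq_zero_or_pos k with h | h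
    · rw [h, pow_zero, orderOf_eq_one_iff] at hk; exact absurd hk h1
    · exact h
  refine ⟨2 ^ j, ?_⟩
  rw [orderOf_pow, hk, pow_succ, Nat.gcd_eq_right (dvd_mul_right _ _), Nat.mul_div_cancel_left _ (by positivity)]

omit [IsSimpleGroup G] hG in
theorem pow_card_eq_one_of_mem {H : Subgroup G} {k : ℕ} (hH : Nat.card H = k) {g : G} (hg : g ∈ H) :
    g ^ k = 1 := by
  have h := pow_card_eq_one' (x := (⟨g, hg⟩ : H))
  rw [hH] at h
  exact congrArg Subtype.val h

/-- A 2-element centralising a Sylow 3-subgroup is trivial. -/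
theorem eq_one_of_centralizes (P : Sylow 3 G) {g : G} {n : ℕ} (hn : g ^ 2 ^ n = 1)
    (hc : ∀ q ∈ (P : Subgroup G), g * q = q * g) : g = 1 := by
  by_contra h1
  obtain ⟨m, hm⟩ := exists_involution_pow h1 hn
  have hle : (P : Subgroup G) ≤ centralizer ({g ^ m} : Set G) := fun q hq =>
    mem_centralizer_singleton_iff.2 ((Commute.pow_left (show Commute g q from hc q hq) m).eq).symm
  have := card_dvd_of_le hle
  rw [card_sylow_three hG P, card_centralizer_invol hG hm] at this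
  norm_num at this

/-- An involution of a 2-group of order at least 8 normalising a Sylow 3-subgroup which is central
in the 2-group inverts the Sylow 3-subgroup. -/
theorem inverts_of_central (P : Sylow 3 G) {S : Subgroup G}
    (hSN : S ≤ normalizer ((P : Subgroup G) : Set G)) {n : ℕ} (hS : Nat.card S = 2 ^ n)
    (h8 : 4 < Nat.card S) {t : G} (htS : t ∈ S) (ht : orderOf t = 2)
    (hc : ∀ s ∈ S, s * t = t * s) : Inverts t (P : Subgroup G) := by
  classical
  set Q : Subgroup G := (P : Subgroup G) with hQ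
  have hQc : ∀ {a b : G}, a ∈ Q → b ∈ Q → a * b = b * a := fun ha hb => sylow_comm hG P ha hb
  have hnorm : ∀ {s : G}, s ∈ S → ∀ {q : G}, q ∈ Q → s * q * s⁻¹ ∈ Q := fun hs _ hq =>
    (mem_normalizer_iff.1 (hSN hs) _).1 hq
  have htt : t * t = 1 := by rw [← sq, ← ht, pow_orderOf_eq_one]
  have htinv : t⁻¹ = t := inv_eq_of_mul_eq_one_left htt
  have hpow : ∀ {s : G}, s ∈ S → s ^ 2 ^ n = 1 := fun hs => pow_card_eq_one_of_mem hS hs
  -- the two eigenspaces
  let K : Subgroup G := Q ⊓ centralizer ({t} : Set G)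
  let I : Subgroup G :=
    { carrier := {q | q ∈ Q ∧ t * q * t⁻¹ = q⁻¹}
      one_mem' := ⟨Q.one_mem, by simp⟩
      mul_mem' := fun {a b} ha hb => ⟨Q.mul_mem ha.1 hb.1, by
        rw [← conj_mul, ha.2, hb.2, ← mul_inv_rev, hQc hb.1 ha.1]⟩
      inv_mem' := fun {a} ha => ⟨Q.inv_mem ha.1, by rw [← conj_inv, ha.2]⟩ }
  have hK : ∀ {q : G}, q ∈ Q → q * (t * q * t⁻¹) ∈ K := by
    intro q hq
    have hq' := hnorm htS hq
    refine ⟨Q.mul_mem hq hq', mem_centralizer_singleton_iff.2 ?_⟩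
    have h2 : t * (q * (t * q * t⁻¹)) * t⁻¹ = q * (t * q * t⁻¹) := by
      calc t * (q * (t * q * t⁻¹)) * t⁻¹ = (t * q * t⁻¹) * ((t * t) * q * (t * t)⁻¹) := by group
        _ = (t * q * t⁻¹) * q := by rw [htt]; group
        _ = _ := hQc hq' hq
    exact (mul_inv_eq_iff_eq_mul.1 h2).symm
  intro q0 hq0
  by_contra hne
  obtain ⟨k, hk⟩ : ∃ k, k = q0 * (t * q0 * t⁻¹) := ⟨_, rfl⟩
  have hkK : k ∈ K := hk ▸ hK hq0
  have hk1 : k ≠ 1 := fun h => hne (eq_inv_of_mul_eq_one_right (hk ▸ h))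
  haveI : Fact (Nat.Prime 3) := ⟨Nat.prime_three⟩
  have hcardQ : Nat.card Q = 9 := card_sylow_three hG P
  -- a subgroup containing a nontrivial element strictly below `Q` has order three
  have hthree : ∀ {A : Subgroup G}, A ≤ Q → A ≠ Q → ∀ {a : G}, a ∈ A → a ≠ 1 →
      Nat.card A = 3 := by
    intro A hA hAne a ha ha1
    have hd := card_dvd_of_le hA
    rw [hcardQ] at hd
    obtain ⟨i, hi, hAi⟩ := (Nat.dvd_prime_pow Nat.prime_three).1 (show _ ∣ 3 ^ 2 from hd)
    have h2 : Nat.card A ≠ 9 := fun h => hAne (eq_of_le_of_card_ge hA (by rw [hcardQ, h]))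
    have h1 : Nat.card A ≠ 1 := fun h => ha1 (by
      rw [card_eq_one] at h
      rw [h, mem_bot] at ha
      exact ha)
    interval_cases i <;> omega
  have hKQ : K ≠ Q := fun h => by
    have ht1 := eq_one_of_centralizes hG P (n := 1) (by rw [pow_one, sq, htt]) fun q hq =>
      (mem_centralizer_singleton_iff.1 (h.ge hq).2).symm
    rw [ht1, orderOf_one] at ht
    norm_num at ht
  have hcardK := hthree inf_le_left hKQ hkK hk1
  obtain ⟨p, hpQ, hpK⟩ : ∃ p ∈ Q, p ∉ K := by
    by_contra h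
    push Not at h
    exact hKQ (le_antisymm inf_le_left h)
  obtain ⟨i, hi⟩ : ∃ i, i = p⁻¹ * (t * p * t⁻¹) := ⟨_, rfl⟩
  have hiI : i ∈ I := by
    have hp' := hnorm htS hpQ
    refine ⟨hi ▸ Q.mul_mem (Q.inv_mem hpQ) hp', ?_⟩
    rw [hi]
    calc t * (p⁻¹ * (t * p * t⁻¹)) * t⁻¹ = (t * p⁻¹ * t⁻¹) * ((t * t) * p * (t * t)⁻¹) := by group
      _ = (t * p * t⁻¹)⁻¹ * p := by rw [htt]; group
      _ = _ := by group
  have hi1 : i ≠ 1 := fun h => hpK ⟨hpQ, mem_centralizer_singleton_iff.2 (by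
    have h2 : t * p * t⁻¹ = p := (inv_mul_eq_one.1 (hi ▸ h)).symm
    exact (mul_inv_eq_iff_eq_mul.1 h2).symm)⟩
  have hKI : ∀ {a : G}, a ∈ K → a ∈ I → a = 1 := fun {a} ha hb => by
    have h2 := hb.2
    rw [← mem_centralizer_singleton_iff.1 ha.2, mul_assoc, mul_inv_cancel, mul_one,
      eq_inv_iff_mul_eq_one] at h2
    have h9 := pow_card_eq_one_of_mem hcardQ hb.1
    calc a = a * ((a * a) ^ 4) := by rw [h2, one_pow, mul_one]
      _ = a ^ 9 := by rw [← sq, ← pow_mul, ← pow_succ']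
      _ = 1 := h9
  have hcardI := hthree (A := I) (fun a ha => ha.1)
    (fun h => hk1 (hKI hkK (h.ge hkK.1))) hiI hi1
  -- the action on the two eigenspaces
  have hcases : ∀ {A : Subgroup G}, Nat.card A = 3 → ∀ {a : G}, a ∈ A → a ≠ 1 → ∀ {b : G}, b ∈ A →
      b = 1 ∨ b = a ∨ b = a⁻¹ := by
    intro A hA a ha ha1 b hb
    haveI := Fintype.ofFinite A
    have h3 : Fintype.card A = 3 := by rw [← Nat.card_eq_fintype_card, hA]
    have ha' : a ≠ a⁻¹ := fun h => ha1 (by
      have h2 : a ^ 2 = 1 := by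
        rw [sq]
        calc a * a = a * a⁻¹ := by rw [← h]
          _ = 1 := mul_inv_cancel a
      have h9 := pow_card_eq_one_of_mem hA ha
      rw [pow_succ, h2, one_mul] at h9
      exact h9)
    have huniv : ({1, ⟨a, ha⟩, ⟨a, ha⟩⁻¹} : Finset A) = Finset.univ := by
      refine Finset.eq_univ_of_card _ ?_
      rw [h3, Finset.card_eq_three]
      refine ⟨1, ⟨a, ha⟩, ⟨a, ha⟩⁻¹, fun h => ha1 (congrArg Subtype.val h).symm, fun h => ?_,
        fun h => ha' (congrArg Subtype.val h), rfl⟩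
      exact ha1 (inv_eq_one.1 (congrArg Subtype.val h).symm)
    have := Finset.mem_univ (⟨b, hb⟩ : A)
    rw [← huniv] at this
    simp only [Finset.mem_insert, Finset.mem_singleton, Subtype.ext_iff, coe_one, coe_inv] at this
    exact this
  have hconjK : ∀ {s : G}, s ∈ S → s * k * s⁻¹ ∈ K := fun {s} hs => by
    refine ⟨hnorm hs hkK.1, mem_centralizer_singleton_iff.2 ?_⟩
    exact ((Commute.mul_left (Commute.mul_left (hc s hs)
      (mem_centralizer_singleton_iff.1 hkK.2)) ((show Commute s t from hc s hs).inv_left))).eq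
  have hconjI : ∀ {s : G}, s ∈ S → s * i * s⁻¹ ∈ I := fun {s} hs => ⟨hnorm hs hiI.1, by
    calc t * (s * i * s⁻¹) * t⁻¹ = (t * s) * i * (t * s)⁻¹ := by group
      _ = (s * t) * i * (s * t)⁻¹ := by rw [hc s hs]
      _ = s * (t * i * t⁻¹) * s⁻¹ := by group
      _ = _ := by rw [hiI.2, conj_inv]⟩
  let φ : S → Prop × Prop := fun s => ((s : G) * k * (s : G)⁻¹ = k, (s : G) * i * (s : G)⁻¹ = i)
  have hinj : Function.Injective φ := by
    rintro ⟨s, hs⟩ ⟨s', hs'⟩ h
    obtain ⟨h1, h2⟩ := Prod.ext_iff.1 h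
    have key : ∀ {a : G} {A : Subgroup G}, Nat.card A = 3 → a ∈ A → a ≠ 1 → s * a * s⁻¹ ∈ A →
        s' * a * s'⁻¹ ∈ A → (s * a * s⁻¹ = a ↔ s' * a * s'⁻¹ = a) →
          s * a * s⁻¹ = s' * a * s'⁻¹ := by
      intro a A hA ha ha1 hsa hsa' hiff
      rcases hcases hA ha ha1 hsa with e | e | e
      · exact absurd (conj_eq_one_iff.1 e) ha1
      · rw [e, hiff.1 e]
      · rcases hcases hA ha ha1 hsa' with e' | e' | e'
        · exact absurd (conj_eq_one_iff.1 e') ha1
        · rw [e', hiff.2 e']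
        · rw [e, e']
    have ek := key hcardK hkK hk1 (hconjK hs) (hconjK hs') (Iff.of_eq h1)
    have ei := key hcardI hiI hi1 (hconjI hs) (hconjI hs') (Iff.of_eq h2)
    have hcent : ∀ {a : G}, s * a * s⁻¹ = s' * a * s'⁻¹ → a ∈ centralizer ({s'⁻¹ * s} : Set G) :=
      fun {a} h => mem_centralizer_singleton_iff.2 (by
        calc a * (s'⁻¹ * s) = s'⁻¹ * (s' * a * s'⁻¹) * s := by group
          _ = s'⁻¹ * (s * a * s⁻¹) * s := by rw [h]
          _ = _ := by group)
    have hQC : Q ≤ centralizer ({s'⁻¹ * s} : Set G) := by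
      have hle : zpowers k ≤ Q ⊓ centralizer ({s'⁻¹ * s} : Set G) :=
        zpowers_le.2 ⟨hkK.1, hcent ek⟩
      by_contra hcon
      have hne' : Q ⊓ centralizer ({s'⁻¹ * s} : Set G) ≠ Q := fun h => hcon (h ▸ inf_le_right)
      have h3 := hthree inf_le_left hne' (hle (mem_zpowers k)) hk1
      rcases hcases h3 (hle (mem_zpowers k)) hk1 (b := i) ⟨hiI.1, hcent ei⟩ with e | e | e
      · exact hi1 e
      · exact hi1 (hKI (e ▸ hkK) hiI)
      · exact hi1 (hKI (e ▸ K.inv_mem hkK) hiI)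
    have := eq_one_of_centralizes hG P (hpow (S.mul_mem (S.inv_mem hs') hs)) fun q hq =>
      (mem_centralizer_singleton_iff.1 (hQC hq)).symm
    exact Subtype.ext (inv_mul_eq_one.1 this).symm
  have hle := Nat.card_le_card_of_injective φ hinj
  simp at hle
  omega

theorem inverts_unique (P : Sylow 3 G) {S : Subgroup G} {n : ℕ} (hS : Nat.card S = 2 ^ n) {a b : G}
    (ha : a ∈ S) (hb : b ∈ S) (hia : Inverts a (P : Subgroup G)) (hib : Inverts b (P : Subgroup G)) :
    a = b := by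
  refine (inv_mul_eq_one.1 (eq_one_of_centralizes hG P
    (pow_card_eq_one_of_mem hS (S.mul_mem (S.inv_mem ha) hb)) fun q hq => ?_))
  have h1 : a * q * a⁻¹ = b * q * b⁻¹ := by rw [hia q hq, hib q hq]
  calc a⁻¹ * b * q = a⁻¹ * (b * q * b⁻¹) * b := by group
    _ = a⁻¹ * (a * q * a⁻¹) * b := by rw [h1]
    _ = _ := by group

/-- A 2-subgroup of order at least 8 of a Sylow 3-normaliser has exactly one central involution,
and it inverts the Sylow 3-subgroup. -/
theorem exists_central (P : Sylow 3 G) {S : Subgroup G}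
    (hSN : S ≤ normalizer ((P : Subgroup G) : Set G)) {n : ℕ} (hS : Nat.card S = 2 ^ n)
    (h8 : 4 < Nat.card S) :
    ∃ z ∈ S, orderOf z = 2 ∧ Inverts z (P : Subgroup G) ∧ (∀ s ∈ S, s * z = z * s) ∧
      ∀ z' ∈ S, orderOf z' = 2 → (∀ s ∈ S, s * z' = z' * s) → z' = z := by
  haveI : Fact (Nat.Prime 2) := ⟨Nat.prime_two⟩
  haveI : Nontrivial S := Finite.one_lt_card_iff_nontrivial.1 (by omega)
  have hp : IsPGroup 2 S := IsPGroup.of_card hS
  haveI : Nontrivial (center S) := hp.center_nontrivial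
  obtain ⟨⟨w, hw⟩, hw1⟩ := exists_ne (1 : center S)
  have hw1' : (w : G) ≠ 1 := fun h => hw1 (Subtype.ext (Subtype.ext h))
  obtain ⟨m, hm⟩ := exists_involution_pow hw1' (pow_card_eq_one_of_mem hS w.2)
  have hcent : ∀ s ∈ S, s * (w : G) ^ m = (w : G) ^ m * s := fun s hs =>
    (Commute.pow_right (congrArg Subtype.val (mem_center_iff.1 hw ⟨s, hs⟩) : Commute s (w : G)) m).eq
  have hinv := inverts_of_central hG P hSN hS h8 (S.pow_mem w.2 m) hm hcent
  exact ⟨_, S.pow_mem w.2 m, hm, hinv, hcent, fun z' hz' ho hc' =>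
    inverts_unique hG P hS hz' (S.pow_mem w.2 m) (inverts_of_central hG P hSN hS h8 hz' ho hc') hinv⟩

/-- There is no element of order 9. -/
theorem no_nine (g : G) : orderOf g ≠ 9 := by
  classical
  intro hg
  haveI : Fact (Nat.Prime 3) := ⟨Nat.prime_three⟩
  haveI : Fact (Nat.Prime 2) := ⟨Nat.prime_two⟩
  obtain ⟨P, hP⟩ := (IsPGroup.of_card (n := 2) (by rw [Nat.card_zpowers, hg]; norm_num) :
    IsPGroup 3 (zpowers g)).exists_le_sylow
  set N := normalizer ((P : Subgroup G) : Set G) with hN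
  obtain ⟨S⟩ : Nonempty (Sylow 2 N) := inferInstance
  have hS : Nat.card ((S : Subgroup N).map N.subtype) = 2 ^ 4 := by
    rw [Subgroup.card_map_of_injective N.subtype_injective]
    exact CfsgLib.SmallSimple.card_sylow_eq S (k := 4) (m := 9)
      (by rw [card_normalizer_three hG P]; norm_num) (by norm_num)
  set S' := (S : Subgroup N).map N.subtype
  have hPeq : zpowers g = (P : Subgroup G) :=
    eq_of_le_of_card_ge hP (by rw [card_sylow_three hG P, Nat.card_zpowers, hg])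
  have hinj : Function.Injective fun s : S' =>
      (⟨(s : G) * g * (s : G)⁻¹, (mem_normalizer_iff.1 (map_subtype_le _ s.2) g).1
        (hP (mem_zpowers g))⟩ : (P : Subgroup G)) := by
    intro s s' h
    have h' := congrArg Subtype.val h
    refine Subtype.ext (inv_mul_eq_one.1 ?_).symm
    refine eq_one_of_centralizes hG P (pow_card_eq_one_of_mem hS (S'.mul_mem (S'.inv_mem s'.2) s.2)) ?_
    intro q hq
    rw [← hPeq] at hq
    obtain ⟨j, rfl⟩ := hq
    refine (Commute.zpow_right (?_ : Commute _ g) j).eq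
    calc (s' : G)⁻¹ * s * g = (s' : G)⁻¹ * ((s : G) * g * (s : G)⁻¹) * s := by group
      _ = (s' : G)⁻¹ * ((s' : G) * g * (s' : G)⁻¹) * s :=
          congrArg (fun e => (s' : G)⁻¹ * e * s) h'
      _ = _ := by group
  have := Nat.card_le_card_of_injective _ hinj
  rw [card_sylow_three hG P, hS] at this
  norm_num at this

end CfsgLib.M11Uniq
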