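import Cfsg.Agent.SmallSimple.M11Uniq.Stab

/-!
# The suborbits of sizes 18 and 36
-/

set_option autoImplicit false
set_option linter.style.haveILetI false
set_option linter.unusedSectionVars false

namespace CfsgLib.M11Uniq

open Subgroup MulAction CfsgLib.Order7920 CfsgLib.Order7920Classes

variable {G : Type*} [Group G] [Finite G] [IsSimpleGroup G] (hG : Nat.card G = 7920)
include hG

/-- A meet of order eight has a single involution, and it inverts both Sylow 3-subgroups. -/
theorem exists_invol_eight (P : Sylow 3 G) {R : Sylow 3 G} (hR : R ≠ P)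
    (h8 : Nat.card (nrm P ⊓ nrm R : Subgroup G) = 8) :
    ∃ z ∈ nrm P ⊓ nrm R, orderOf z = 2 ∧ Inverts z (P : Subgroup G) ∧
      (∀ s ∈ nrm P ⊓ nrm R, s * z = z * s) ∧
      ∀ a ∈ nrm P ⊓ nrm R, orderOf a = 2 → a = z := by
  classical
  set H := nrm P ⊓ nrm R with hH
  obtain ⟨S, hSP, hHS, hS⟩ := exists_sixteen hG P (H := H) inf_le_left (n := 3) (by rw [h8]; rfl)
  obtain ⟨S', hS'R, hHS', hS'⟩ := exists_sixteen hG R (H := H) inf_le_right (n := 3) (by rw [h8]; rfl)
  have hnor : ∀ {T : Subgroup G}, H ≤ T → Nat.card T = 2 ^ 4 → T ≤ normalizer (H : Set G) := by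
    intro T hHT hT
    refine (normal_subgroupOf_iff_le_normalizer hHT).1 (normal_of_index_eq_two ?_)
    have h := (H.subgroupOf T).card_mul_index
    rw [Nat.card_congr (subgroupOfEquivOfLe hHT).toEquiv, h8, hT] at h
    omega
  have hne : S ≠ S' := by
    rintro rfl
    have h16 : 16 ∣ Nat.card H := by
      rw [show (16 : ℕ) = Nat.card S by rw [hS]; rfl]
      exact card_dvd_of_le (le_inf hSP hS'R)
    rw [h8] at h16
    norm_num at h16
  have h16 : 16 ∣ Nat.card (normalizer (H : Set G)) := by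
    have := card_dvd_of_le (hnor hHS hS)
    rwa [hS] at this
  have hlt : 16 < Nat.card (normalizer (H : Set G)) := by
    have h1 := card_le_of_le (hnor hHS hS)
    rw [hS] at h1
    refine lt_of_le_of_ne h1 fun he => hne ?_
    rw [eq_of_le_of_card_ge (hnor hHS hS) (by rw [hS, ← he]; norm_num),
      eq_of_le_of_card_ge (hnor hHS' hS') (by rw [hS', ← he]; norm_num)]
  obtain ⟨z, hzH, hz, u, hu, huH, hfix⟩ := exists_three_of_lt hG P (S := H) inf_le_left (n := 3)
    (by rw [h8]; rfl) (by rw [h8]; norm_num) h16 hlt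
  obtain ⟨z₀, hz₀H, hz₀, hinv, hc, hu₀⟩ := exists_central hG P (S := H) inf_le_left (n := 3)
    (by rw [h8]; rfl) (by rw [h8]; norm_num)
  have huz : z₀ = z := by
    have h1 := hu₀ (u * z₀ * u⁻¹) ((huH z₀).1 hz₀H)
      (by rw [show u * z₀ * u⁻¹ = MulAut.conj u z₀ from rfl, MulEquiv.orderOf_eq, hz₀]) fun s hs => by
        have hs' : u⁻¹ * s * u ∈ H := (huH _).2 (by simpa [mul_assoc] using hs)
        calc s * (u * z₀ * u⁻¹) = u * ((u⁻¹ * s * u) * z₀) * u⁻¹ := by group
          _ = u * (z₀ * (u⁻¹ * s * u)) * u⁻¹ := by rw [hc _ hs']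
          _ = _ := by group
    refine ((hfix z₀ hz₀H).1 h1).resolve_left fun h => ?_
    rw [h, orderOf_one] at hz₀
    norm_num at hz₀
  subst huz
  refine ⟨z₀, hzH, hz, hinv, hc, fun t ht hto => ?_⟩
  by_contra htz
  let p : G → Prop := fun a => orderOf a = 2 ∧ a ≠ z₀
  have hp : ∀ a, p a ↔ p (u * a * u⁻¹) := fun a => by
    have he : u * z₀ * u⁻¹ = z₀ := (hfix z₀ hzH).2 (Or.inr rfl)
    refine and_congr (by rw [show u * a * u⁻¹ = MulAut.conj u a from rfl, MulEquiv.orderOf_eq])
      (not_congr ⟨fun h => by rw [h, he], fun h => ?_⟩)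
    exact mul_left_cancel (mul_right_cancel (h.trans he.symm))
  have h3 := fixed_conj hu huH p hp ∅ fun a => by
    refine ⟨fun h => absurd h (Finset.notMem_empty _), fun h => ?_⟩
    rcases (hfix a.1 a.2.1).1 h with h1 | h1
    · have := a.2.2.1
      rw [h1, orderOf_one] at this
      norm_num at this
    · exact absurd h1 a.2.2.2
  rw [Finset.card_empty] at h3
  haveI := Fintype.ofFinite {a : G // a ∈ H ∧ p a}
  haveI := Fintype.ofFinite H
  -- multiplication by the central involution pairs these elements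
  have h2 : Even (Nat.card {a : G // a ∈ H ∧ p a}) := by
    have hzz : z₀ * z₀ = 1 := by rw [← sq, ← hz, pow_orderOf_eq_one]
    have hmem : ∀ a : {a : G // a ∈ H ∧ p a}, a.1 * z₀ ∈ H ∧ p (a.1 * z₀) := fun a => by
      have haa : a.1 * a.1 = 1 := by rw [← sq, ← a.2.2.1, pow_orderOf_eq_one]
      refine ⟨H.mul_mem a.2.1 hzH, orderOf_eq_prime ?_ ?_, ?_⟩
      · rw [sq, mul_assoc, ← mul_assoc z₀, ← hc a.1 a.2.1, ← mul_assoc, ← mul_assoc, haa, one_mul, hzz]
      · exact fun h => a.2.2.2 (by rw [eq_inv_of_mul_eq_one_left h, inv_eq_of_mul_eq_one_left hzz])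
      · intro h
        have := a.2.2.1
        rw [mul_eq_right.1 h, orderOf_one] at this
        norm_num at this
    have hz1 : z₀ ≠ 1 := fun h => by rw [h, orderOf_one] at hz; norm_num at hz
    let f : Equiv.Perm {a : G // a ∈ H ∧ p a} :=
      Function.Involutive.toPerm (fun a => ⟨a.1 * z₀, hmem a⟩)
        (fun a => Subtype.ext (by simp [mul_assoc, hzz]))
    haveI : Fact (Nat.Prime 2) := ⟨Nat.prime_two⟩
    have h := Equiv.Perm.card_compl_support_modEq (p := 2) (n := 1) (σ := f) (by
      ext a; change a.1 * z₀ * z₀ = a.1; rw [mul_assoc, hzz, mul_one])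
    have he : (f.support)ᶜ = (∅ : Finset _) := by
      ext a
      simp only [Finset.mem_compl, Equiv.Perm.mem_support, not_not, Finset.notMem_empty, iff_false]
      exact fun h => hz1 (mul_eq_left.1 (congrArg Subtype.val h))
    rw [he, Finset.card_empty, ← Nat.card_eq_fintype_card] at h
    exact Nat.even_iff.2 h.symm
  have hle : Nat.card {a : G // a ∈ H ∧ p a} + 2 ≤ 8 := by
    have hs : ((Finset.univ : Finset {a : G // a ∈ H ∧ p a}).map ⟨fun a => (⟨a.1, a.2.1⟩ : H),
        fun a b h => Subtype.ext (by simpa using h)⟩) ⊆ ((Finset.univ.erase 1).erase ⟨z₀, hzH⟩) := by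
      intro x hx
      obtain ⟨a, -, rfl⟩ := Finset.mem_map.1 hx
      refine Finset.mem_erase.2 ⟨fun h => a.2.2.2 (congrArg Subtype.val h), Finset.mem_erase.2
        ⟨fun h => ?_, Finset.mem_univ _⟩⟩
      have := a.2.2.1
      rw [show a.1 = 1 from congrArg Subtype.val h, orderOf_one] at this
      norm_num at this
    have h := Finset.card_le_card hs
    have hz1 : (⟨z₀, hzH⟩ : H) ≠ 1 := fun h => by
      rw [show z₀ = 1 from congrArg Subtype.val h, orderOf_one] at hz; norm_num at hz
    rw [Finset.card_map, Finset.card_erase_of_mem (Finset.mem_erase.2 ⟨hz1, Finset.mem_univ _⟩),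
      Finset.card_erase_of_mem (Finset.mem_univ _), Finset.card_univ, Finset.card_univ,
      ← Nat.card_eq_fintype_card, ← Nat.card_eq_fintype_card, h8] at h
    omega
  have hpos : 0 < Nat.card {a : G // a ∈ H ∧ p a} := by
    haveI : Nonempty {a : G // a ∈ H ∧ p a} := ⟨⟨t, ht, hto, htz⟩⟩
    exact Nat.card_pos
  obtain ⟨r, hr⟩ := h2
  have h6 : Nat.card {a : G // a ∈ H ∧ p a} = 6 := by
    simp only [Nat.ModEq, Nat.zero_mod] at h3
    omega
  -- then every element squares to one
  have hexp : ∀ a ∈ H, a * a = 1 := by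
    let f : {a : G // a ∈ H ∧ p a} ⊕ Bool → H := Sum.elim (fun a => ⟨a.1, a.2.1⟩)
      (fun b => if b then 1 else ⟨z₀, hzH⟩)
    have hz1 : z₀ ≠ 1 := fun h => by rw [h, orderOf_one] at hz; norm_num at hz
    have hne1 : ∀ a : {a : G // a ∈ H ∧ p a}, a.1 ≠ 1 := fun a h => by
      have := a.2.2.1; rw [h, orderOf_one] at this; norm_num at this
    have hinj : Function.Injective f := by
      rintro (a | a) (b | b) h
      · exact congrArg Sum.inl (Subtype.ext (congrArg Subtype.val h :))
      · cases b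
        · exact absurd (congrArg Subtype.val h) a.2.2.2
        · exact absurd (congrArg Subtype.val h) (hne1 a)
      · cases a
        · exact absurd (congrArg Subtype.val h).symm b.2.2.2
        · exact absurd (congrArg Subtype.val h).symm (hne1 b)
      · cases a <;> cases b
        · rfl
        · exact absurd (congrArg Subtype.val h) hz1
        · exact absurd (congrArg Subtype.val h).symm hz1
        · rfl
    have hbij := (Fintype.bijective_iff_injective_and_card f).2 ⟨hinj, by
      rw [Fintype.card_sum, Fintype.card_bool, ← Nat.card_eq_fintype_card, ← Nat.card_eq_fintype_card,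
        h8, h6]⟩
    intro a ha
    obtain ⟨x, hx⟩ := hbij.2 ⟨a, ha⟩
    have hxa := congrArg Subtype.val hx
    rcases x with x | x
    · simp only [f, Sum.elim_inl] at hxa
      rw [← hxa, ← sq, ← x.2.2.1, pow_orderOf_eq_one]
    · cases x
      · simp only [f, Sum.elim_inr, Bool.false_eq_true, if_false] at hxa
        rw [← hxa, ← sq, ← hz, pow_orderOf_eq_one]
      · simp only [f, Sum.elim_inr, if_true, OneMemClass.coe_one] at hxa
        rw [← hxa, one_mul]
  refine htz (hu₀ t ht hto fun s hs => ?_)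
  have e1 := inv_eq_of_mul_eq_one_left (hexp s hs)
  have e2 := inv_eq_of_mul_eq_one_left (hexp t ht)
  rw [← inv_eq_of_mul_eq_one_left (hexp _ (H.mul_mem hs ht)), mul_inv_rev, e1, e2]

/-- Every nontrivial element of a meet of order eight has the involution as a power. -/
theorem exists_pow_eq {P R : Sylow 3 G} {z : G}
    (h8 : Nat.card (nrm P ⊓ nrm R : Subgroup G) = 8)
    (hu : ∀ a ∈ nrm P ⊓ nrm R, orderOf a = 2 → a = z)
    {a : G} (ha : a ∈ nrm P ⊓ nrm R) (ha1 : a ≠ 1) : ∃ m : ℕ, a ^ m = z := by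
  obtain ⟨m, hm⟩ := exists_involution_pow ha1 (n := 3) (pow_card_eq_one_of_mem h8 ha)
  exact ⟨m, hu _ ((nrm P ⊓ nrm R).pow_mem ha m) hm⟩

/-- Some meet has order four. -/
theorem exists_four (P : Sylow 3 G) :
    ∃ R, R ≠ P ∧ Nat.card (nrm P ⊓ nrm R : Subgroup G) = 4 := by
  classical
  haveI : Fact (Nat.Prime 3) := ⟨Nat.prime_three⟩
  by_contra hcon
  push Not at hcon
  obtain ⟨S, hSP, -, hS⟩ := exists_sixteen hG P (H := ⊥) bot_le (n := 0) (by simp)
  obtain ⟨z, hzS, hz, hzinv, hzc, hzu⟩ := exists_central hG P hSP hS (by rw [hS]; norm_num)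
  have hz1 : z ≠ 1 := fun h => by rw [h, orderOf_one] at hz; norm_num at hz
  -- a second involution
  obtain ⟨t, htS, ht, htz⟩ : ∃ t ∈ S, orderOf t = 2 ∧ t ≠ z := by
    by_contra h
    push Not at h
    haveI : Nontrivial (P : Subgroup G) :=
      Finite.one_lt_card_iff_nontrivial.1 (by rw [card_sylow_three hG P]; norm_num)
    obtain ⟨⟨k, hk⟩, hk1⟩ := exists_ne (1 : (P : Subgroup G))
    have hinj : Function.Injective fun s : S =>
        (⟨(s : G) * k * (s : G)⁻¹, (mem_normalizer_iff.1 (hSP s.2) k).1 hk⟩ : (P : Subgroup G)) := by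
      intro s s' he
      have he' := congrArg Subtype.val he
      by_contra hne
      set a := (s' : G)⁻¹ * s with ha
      have haS : a ∈ S := S.mul_mem (S.inv_mem s'.2) s.2
      have ha1 : a ≠ 1 := fun h => hne (Subtype.ext (inv_mul_eq_one.1 h).symm)
      obtain ⟨m, hm⟩ := exists_involution_pow ha1 (pow_card_eq_one_of_mem hS haS)
      have hak : Commute a k := by
        change a * k = k * a
        calc a * k = (s' : G)⁻¹ * ((s : G) * k * (s : G)⁻¹) * s := by rw [ha]; group
          _ = (s' : G)⁻¹ * ((s' : G) * k * (s' : G)⁻¹) * s := congrArg (fun e => (s' : G)⁻¹ * e * s) he'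
          _ = _ := by rw [ha]; group
      have h1 := hzinv k hk
      rw [← h _ (S.pow_mem haS m) hm, (hak.pow_left m).eq, mul_inv_cancel_right] at h1
      refine hk1 (Subtype.ext ?_)
      change k = 1
      have h2 : k ^ 2 = 1 := by rw [sq]; exact mul_eq_one_iff_eq_inv.2 h1
      have h9 := pow_card_eq_one_of_mem (card_sylow_three hG P) hk
      rwa [show (9 : ℕ) = 2 * 4 + 1 from rfl, pow_succ, pow_mul, h2, one_pow, one_mul] at h9
    have := Nat.card_le_card_of_injective _ hinj
    rw [card_sylow_three hG P, hS] at this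
    norm_num at this
  have hninv : ¬ Inverts t (P : Subgroup G) := fun hti =>
    htz (inverts_unique hG P hS htS hzS hti hzinv)
  obtain ⟨c, hc, hcP⟩ : ∃ c ∈ centralizer ({t} : Set G), c ∉ nrm P := by
    by_contra h
    push Not at h
    set C := centralizer ({t} : Set G) with hC
    haveI : Fact (Nat.Prime 2) := ⟨Nat.prime_two⟩
    have hC48 : Nat.card C = 48 := card_centralizer_invol hG ht
    have htC : t ∈ C := mem_centralizer_singleton_iff.2 rfl
    obtain ⟨T, hT⟩ := (IsPGroup.of_card (n := 1)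
      (by rw [Nat.card_zpowers, ← orderOf_coe, pow_one]; exact ht) :
        IsPGroup 2 (zpowers (⟨t, htC⟩ : C))).exists_le_sylow
    set T' := (T : Subgroup C).map C.subtype with hT'
    have hT'c : Nat.card T' = 2 ^ 4 := by
      rw [card_map_of_injective C.subtype_injective]
      exact SmallSimple.card_sylow_eq T (k := 4) (m := 3) (by rw [hC48]; norm_num) (by norm_num)
    have hcomm : ∀ s ∈ T', s * t = t * s := fun s hs =>
      mem_centralizer_singleton_iff.1 (map_subtype_le _ hs)
    have hT'P : T' ≤ nrm P := fun s hs => h s (map_subtype_le _ hs)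
    have htT : t ∈ T' := ⟨⟨t, htC⟩, hT (mem_zpowers _), rfl⟩
    exact hninv (inverts_of_central hG P hT'P hT'c (by rw [hT'c]; norm_num) htT ht hcomm)
  have hR : c • P ≠ P := fun h => hcP (mem_nrm.2 h)
  have h8 := (card_stab hG P hR).resolve_left (hcon _ hR)
  obtain ⟨w, hw, -, hwinv, -, hwu⟩ := exists_invol_eight hG P hR h8
  have htR : t ∈ nrm P ⊓ nrm (c • P) := by
    refine ⟨hSP htS, mem_nrm.2 ?_⟩
    rw [smul_smul, ← (mem_centralizer_singleton_iff.1 hc), mul_smul, mem_nrm.1 (hSP htS)]
  exact hninv (hwu t htR ht ▸ hwinv)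

end CfsgLib.M11Uniq
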