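import Cfsg.Agent.SmallSimple.M11Uniq.Graph
import Mathlib.LinearAlgebra.Matrix.ToLin
import Mathlib.LinearAlgebra.Trace
import Mathlib.Analysis.Complex.Polynomial.Basic

/-!
# The parts cannot be edgeless and matched
-/

set_option autoImplicit false
set_option linter.style.haveILetI false
set_option linter.unusedSectionVars false

namespace CfsgLib.M11Uniq

open Subgroup MulAction CfsgLib.Order7920 CfsgLib.Order7920Classes Finset
open scoped Classical

variable {G : Type*} [Group G] [Finite G]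

theorem nb_smul (g : G) (P : Sylow 3 G) : nb (g • P) = (nb P).image (g • ·) := by
  ext X
  simp only [mem_image, mem_nb]
  constructor
  · intro h
    exact ⟨g⁻¹ • X, (adj_smul g).1 (by rwa [smul_inv_smul]), smul_inv_smul _ _⟩
  · rintro ⟨Y, hY, rfl⟩
    exact (adj_smul g).2 hY

/-- A matrix of trace `342` squaring to `89` times a projection of rank `54` does not exist. -/
theorem no_matrix {ι : Type*} [Fintype ι] [DecidableEq ι] {W E : Matrix ι ι ℂ} (hWW : W * W = (89 : ℂ) • E)
    (hEW : E * W = W) (hWE : W * E = W) (hE : E.trace = 54) (hW : W.trace = 342) : False := by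
  obtain ⟨s, hs⟩ := IsAlgClosed.exists_pow_nat_eq (89 : ℂ) (n := 2) (by norm_num)
  have hs0 : s ≠ 0 := fun h => by rw [h] at hs; norm_num at hs
  have hEE : E * E = E := by
    have h : (89 : ℂ) • (E * E) = (89 : ℂ) • E := by
      rw [← smul_mul_assoc, ← hWW, mul_assoc, hWE]
    exact smul_right_injective _ (by norm_num : (89 : ℂ) ≠ 0) h
  have hid : ((2 : ℂ)⁻¹ • (E + s⁻¹ • W)) * ((2 : ℂ)⁻¹ • (E + s⁻¹ • W)) = (2 : ℂ)⁻¹ • (E + s⁻¹ • W) := by
    simp only [smul_mul_assoc, mul_smul_comm, add_mul, mul_add, hEE, hEW, hWE, hWW, smul_add,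
      smul_smul]
    have hc : s⁻¹ * (s⁻¹ * 89) = 1 := by rw [← hs]; field_simp
    match_scalars
    · linear_combination (4⁻¹ : ℂ) * hc
    · ring
  obtain ⟨V, hV⟩ := (LinearMap.isProj_iff_isIdempotentElem
    (Matrix.toLin' ((2 : ℂ)⁻¹ • (E + s⁻¹ • W)))).mpr (by
      change Matrix.toLin' _ * Matrix.toLin' _ = Matrix.toLin' _
      rw [Module.End.mul_eq_comp, ← Matrix.toLin'_mul, hid])
  have htr := hV.trace
  rw [Matrix.trace_toLin'_eq, Matrix.trace_smul, Matrix.trace_add, Matrix.trace_smul, hE, hW,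
    smul_eq_mul, smul_eq_mul] at htr
  generalize Module.finrank ℂ V = n at htr
  have h1 : (2 * (n : ℂ) - 54) * s = 342 := by
    rw [← htr]; field_simp; ring
  have h2 : ((((2 * (n : ℤ) - 54) ^ 2 * 89 : ℤ)) : ℂ) = ((116964 : ℤ) : ℂ) := by
    push_cast
    calc (2 * (n : ℂ) - 54) ^ 2 * 89 = ((2 * (n : ℂ) - 54) * s) ^ 2 := by rw [mul_pow, hs]
      _ = _ := by rw [h1]; norm_num
  have h3 : (2 * (n : ℤ) - 54) ^ 2 * 89 = 116964 := Int.cast_injective h2
  omega

variable [IsSimpleGroup G] (hG : Nat.card G = 7920)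
include hG

theorem not_matched_empty (hE : ∀ {P X : Sylow 3 G}, Adj P X → Empty P X)
    (hM : ∀ {P X : Sylow 3 G}, Adj P X → Matched P X) : False := by
  haveI : Fact (Nat.Prime 3) := ⟨Nat.prime_three⟩
  -- common neighbours
  have hadj : ∀ {P X : Sylow 3 G}, Adj P X → (nb P ∩ nb X).card = 1 := by
    intro P X hX
    obtain ⟨Y, hY, hYX, hH, hsplit, -⟩ := third hG hX
    have hXY := third_adj hG hX hY hYX hH
    refine card_eq_one.2 ⟨Y, ?_⟩
    ext W
    rw [mem_inter, mem_singleton, mem_nb, mem_nb]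
    refine ⟨fun ⟨h1, h2⟩ => ?_, fun h => by subst h; exact ⟨hY, hXY⟩⟩
    have hWX : W ∉ part P X := fun h => hE hX X (self_mem_part P X) W h h2
    exact hM hX X (self_mem_part P X) W (mem_nb.2 h1) Y (mem_nb.2 hY) hWX hYX h2 hXY
  have hnon : ∀ {P Z : Sylow 3 G}, Z ≠ P → ¬ Adj P Z → (nb P ∩ nb Z).card = 8 := by
    intro P Z hZ hZn
    set F := (univ.erase P) \ nb P with hF
    have hnbsub : nb P ⊆ univ.erase P := fun W hW =>
      mem_erase.2 ⟨fun h => self_not_mem_nb P (h ▸ hW), mem_univ _⟩
    have hFc : F.card = 36 := by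
      rw [hF, card_sdiff_of_subset hnbsub, card_nb hG, card_erase_of_mem (mem_univ _), card_univ,
        ← Nat.card_eq_fintype_card, card_omega hG]
    have h4 : Nat.card (nrm P ⊓ nrm Z : Subgroup G) = 4 :=
      (card_stab hG P hZ).resolve_right fun h => hZn ⟨hZ, h⟩
    have horb : (norb P Z).toFinset = F := by
      refine eq_of_subset_of_card_le (fun W hW => ?_) (by
        rw [hFc, Set.toFinset_card, ← Nat.card_eq_fintype_card]
        have := card_norb_mul hG P Z
        rw [h4] at this
        omega)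
      rw [Set.mem_toFinset] at hW
      obtain ⟨⟨n, hn⟩, rfl⟩ := hW
      refine mem_sdiff.2 ⟨mem_erase.2 ⟨fun h => hZ (smul_left_cancel n
        (h.trans (mem_nrm.1 hn).symm)), mem_univ _⟩, fun h => hZn ?_⟩
      have h2 : Adj (n • P) (n • Z) := by rw [mem_nrm.1 hn]; exact mem_nb.1 h
      exact (adj_smul n).1 h2
    have hconst : ∀ W ∈ F, (nb P ∩ nb W).card = (nb P ∩ nb Z).card := by
      intro W hW
      rw [← horb, Set.mem_toFinset] at hW
      obtain ⟨⟨n, hn⟩, rfl⟩ := hW
      change (nb P ∩ nb (n • Z)).card = _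
      conv_lhs => rw [← mem_nrm.1 hn, nb_smul, nb_smul, ← image_inter _ _ (MulAction.injective n)]
      exact card_image_of_injective _ (MulAction.injective n)
    have hout : ∀ x ∈ nb P, (nb x ∩ F).card = 16 := by
      intro x hx
      have hPx := mem_nb.1 hx
      have he : nb x ∩ F = nb x \ insert P (nb P ∩ nb x) := by
        ext W
        simp only [hF, mem_inter, mem_sdiff, mem_erase, mem_univ, and_true, mem_insert]
        tauto
      rw [he, card_sdiff_of_subset (insert_subset (mem_nb.2 hPx.symm) inter_subset_right),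
        card_insert_of_notMem (fun h => self_not_mem_nb P (mem_inter.1 h).1), hadj hPx, card_nb hG]
    have h := sum_card_bipartiteAbove_eq_sum_card_bipartiteBelow (fun x W => W ∈ nb x)
      (s := nb P) (t := F)
    simp only [bipartiteAbove, bipartiteBelow] at h
    rw [sum_congr rfl fun x hx => show (F.filter fun W => W ∈ nb x).card = 16 by
        rw [← hout x hx]; congr 1; ext W; simp [and_comm],
      sum_congr rfl fun W hW => show ((nb P).filter fun x => W ∈ nb x).card = (nb P ∩ nb Z).card by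
        rw [← hconst W hW]; congr 1; ext x
        simp only [mem_filter, mem_inter, mem_nb]
        exact and_congr_right fun _ => ⟨Adj.symm, Adj.symm⟩,
      sum_const, sum_const, card_nb hG, hFc, smul_eq_mul, smul_eq_mul] at h
    omega
  -- the matrix
  let a : Sylow 3 G → Sylow 3 G → ℂ := fun i j => if Adj i j then 1 else 0
  have hrow : ∀ i, ∑ j, a i j = 18 := fun i => by
    simp only [a]
    rw [sum_boole, show univ.filter (Adj i) = nb i from rfl, card_nb hG]
    norm_num
  have hcol : ∀ j, ∑ i, a i j = 18 := fun j => by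
    rw [← hrow j]
    exact sum_congr rfl fun i _ => by
      simp only [a]; exact if_congr ⟨Adj.symm, Adj.symm⟩ rfl rfl
  have hcard : (Fintype.card (Sylow 3 G) : ℂ) = 55 := by
    rw [← Nat.card_eq_fintype_card, card_omega hG]; norm_num
  have hsq : ∀ i k, ∑ j, a i j * a j k = ((nb i ∩ nb k).card : ℂ) := fun i k => by
    simp only [a, ite_mul, one_mul, zero_mul, ← ite_and]
    rw [sum_boole]
    congr 2
    ext j
    simp only [mem_filter, mem_univ, true_and, mem_inter, mem_nb]
    exact and_congr_right fun _ => ⟨Adj.symm, Adj.symm⟩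
  let δ : Sylow 3 G → Sylow 3 G → ℂ := fun i j => if i = j then 1 else 0
  let W : Matrix (Sylow 3 G) (Sylow 3 G) ℂ := Matrix.of fun i j => 2 * a i j + 7 * δ i j - 43 / 55
  let E : Matrix (Sylow 3 G) (Sylow 3 G) ℂ := Matrix.of fun i j => δ i j - 1 / 55
  have hd1 : ∀ i, ∑ j, δ i j = 1 := fun i => by simp [δ]
  have hd2 : ∀ j, ∑ i, δ i j = 1 := fun j => by simp [δ]
  have hdl : ∀ (f : Sylow 3 G → ℂ) i, ∑ j, δ i j * f j = f i := fun f i => by simp [δ]
  have hdr : ∀ (f : Sylow 3 G → ℂ) k, ∑ j, f j * δ j k = f k := fun f k => by simp [δ]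
  refine no_matrix (W := W) (E := E) ?_ ?_ ?_ ?_ ?_
  · ext i k
    rw [Matrix.mul_apply, Matrix.smul_apply, smul_eq_mul]
    change ∑ j, (2 * a i j + 7 * δ i j - 43 / 55) * (2 * a j k + 7 * δ j k - 43 / 55) =
      89 * (δ i k - 1 / 55)
    rw [sum_congr rfl fun j _ => show (2 * a i j + 7 * δ i j - 43 / 55) * (2 * a j k + 7 * δ j k - 43 / 55)
      = 4 * (a i j * a j k) + 14 * (δ i j * a j k) + 14 * (a i j * δ j k) + 49 * (δ i j * δ j k)
        - (86 / 55) * a j k - (86 / 55) * a i j - (301 / 55) * δ j k - (301 / 55) * δ i j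
        + (43 / 55) ^ 2 * (1 : ℂ) by ring]
    simp only [sum_add_distrib, sum_sub_distrib, ← mul_sum, hsq, hrow, hcol, hd1, hd2,
      hdl (fun j => a j k), hdl (fun j => δ j k), hdr (fun j => a i j)]
    rw [sum_const, card_univ, nsmul_eq_mul, hcard]
    by_cases hik : i = k
    · subst hik
      rw [inter_self, card_nb hG]
      simp only [a, δ, if_true, show ¬ Adj i i from fun h => h.1 rfl, if_false]
      norm_num
    · by_cases hA : Adj i k
      · rw [hadj hA]
        simp only [a, δ, if_pos hA, if_neg hik]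
        norm_num
      · rw [hnon (Ne.symm hik) hA]
        simp only [a, δ, if_neg hA, if_neg hik]
        norm_num
  · ext i k
    rw [Matrix.mul_apply]
    change ∑ j, (δ i j - 1 / 55) * (2 * a j k + 7 * δ j k - 43 / 55) = 2 * a i k + 7 * δ i k - 43 / 55
    simp only [sub_mul, sum_sub_distrib, hdl (fun j => 2 * a j k + 7 * δ j k - 43 / 55), ← mul_sum,
      sum_add_distrib, hcol, hd2]
    rw [sum_const, card_univ, nsmul_eq_mul, hcard]
    norm_num
  · ext i k
    rw [Matrix.mul_apply]
    change ∑ j, (2 * a i j + 7 * δ i j - 43 / 55) * (δ j k - 1 / 55) = 2 * a i k + 7 * δ i k - 43 / 55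
    simp only [mul_sub, sum_sub_distrib, hdr (fun j => 2 * a i j + 7 * δ i j - 43 / 55), ← sum_mul,
      sum_add_distrib, ← mul_sum, hrow, hd1]
    rw [sum_const, card_univ, nsmul_eq_mul, hcard]
    norm_num
  · simp only [Matrix.trace, Matrix.diag_apply, E, Matrix.of_apply, δ, if_true]
    rw [sum_const, card_univ, nsmul_eq_mul, hcard]
    norm_num
  · simp only [Matrix.trace, Matrix.diag_apply, W, Matrix.of_apply, δ, a, if_true,
      show ∀ i : Sylow 3 G, ¬ Adj i i from fun i h => h.1 rfl, if_false]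
    rw [sum_const, card_univ, nsmul_eq_mul, hcard]
    norm_num

end CfsgLib.M11Uniq
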