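import Cfsg.Agent.SmallSimple.M11Uniq.Local
import Mathlib.GroupTheory.Perm.Cycle.Type

/-!
# Two Sylow 3-normalisers meet in groups of order 4 or 8
-/

set_option autoImplicit false
set_option linter.style.haveILetI false
set_option linter.unusedSectionVars false

namespace CfsgLib.M11Uniq

open Subgroup MulAction CfsgLib.Order7920 CfsgLib.Order7920Classes

/-- The normaliser of a Sylow subgroup. -/
abbrev nrm {G : Type*} [Group G] {p : ℕ} (P : Sylow p G) : Subgroup G :=
  normalizer ((P : Subgroup G) : Set G)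

/-- The orbit of `R` under the normaliser of `P`. -/
abbrev norb {G : Type*} [Group G] (P R : Sylow 3 G) : Set (Sylow 3 G) := MulAction.orbit (nrm P) R

theorem mem_nrm {G : Type*} [Group G] {p : ℕ} [Fact p.Prime] [Finite G] {P : Sylow p G} {g : G} :
    g ∈ nrm P ↔ g • P = P := Sylow.smul_eq_iff_mem_normalizer.symm

variable {G : Type*} [Group G] [Finite G]

/-- An automorphism of order three of a finite set has as many fixed points as the set, modulo 3. -/
theorem fixed_mod_three {α : Type*} [Finite α] (f : Equiv.Perm α) (hf : ∀ a, f (f (f a)) = a)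
    (T : Finset α) (hT : ∀ a, a ∈ T ↔ f a = a) : Nat.card α ≡ T.card [MOD 3] := by
  classical
  haveI := Fintype.ofFinite α
  haveI : Fact (Nat.Prime 3) := ⟨Nat.prime_three⟩
  have h := Equiv.Perm.card_compl_support_modEq (p := 3) (n := 1) (σ := f) (by
    ext a; rw [pow_one, pow_succ, pow_succ, pow_one]; exact hf a)
  have hT' : (f.support)ᶜ = T := by ext a; simp [hT]
  rw [hT', ← Nat.card_eq_fintype_card] at h
  exact h.symm

theorem card_conj_smul_nrm {p : ℕ} [Fact p.Prime] (g : G) (P R : Sylow p G) :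
    Nat.card (nrm (g • P) ⊓ nrm (g • R) : Subgroup G) = Nat.card (nrm P ⊓ nrm R : Subgroup G) := by
  refine Nat.card_congr ((MulAut.conj g).toEquiv.subtypeEquiv fun a => ?_).symm
  simp only [mem_inf, mem_nrm]
  have h : ∀ S : Sylow p G, (MulAut.conj g a) • (g • S) = g • S ↔ a • S = S := fun S => by
    rw [MulAut.conj_apply, smul_smul, inv_mul_cancel_right, mul_smul, smul_left_cancel_iff]
  exact (and_congr (h P) (h R)).symm

variable [IsSimpleGroup G] (hG : Nat.card G = 7920)
include hG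

theorem card_omega : Nat.card (Sylow 3 G) = 55 := by
  haveI : Fact (Nat.Prime 3) := ⟨Nat.prime_three⟩
  obtain ⟨P⟩ : Nonempty (Sylow 3 G) := inferInstance
  have h := CfsgLib.SmallSimple.card_sylow_mul P
  rw [card_normalizer_three hG P, hG] at h
  omega

/-- Nontrivial elements of a Sylow 3-subgroup fix only it. -/
theorem free (P : Sylow 3 G) {R : Sylow 3 G} (hR : R ≠ P) {q : G} (hq : q ∈ (P : Subgroup G))
    (h : q • R = R) : q = 1 := by
  haveI : Fact (Nat.Prime 3) := ⟨Nat.prime_three⟩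
  by_contra h1
  refine hR (sylow_three_inter hG P R fun hbot => h1 ?_).symm
  have hmem : q ∈ (P : Subgroup G) ⊓ (R : Subgroup G) := ⟨hq, SmallSimple.mem_sylow_of_smul_eq
    (n := 2) (pow_card_eq_one_of_mem (card_sylow_three hG P) hq) R h⟩
  rwa [hbot, mem_bot] at hmem

theorem card_stab_dvd (P : Sylow 3 G) {R : Sylow 3 G} (hR : R ≠ P) :
    Nat.card (nrm P ⊓ nrm R : Subgroup G) ∣ 16 := by
  haveI : Fact (Nat.Prime 3) := ⟨Nat.prime_three⟩
  set H := nrm P ⊓ nrm R
  have hd : Nat.card H ∣ 144 := card_normalizer_three hG P ▸ card_dvd_of_le inf_le_left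
  have h3 : ¬ 3 ∣ Nat.card H := by
    intro h
    obtain ⟨v, hv, hvo⟩ := exists_orderOf_mem h
    have hvP : v ∈ (P : Subgroup G) := SmallSimple.mem_sylow_of_smul_eq (n := 1)
      (by rw [pow_one, ← hvo, pow_orderOf_eq_one]) P (mem_nrm.1 hv.1)
    rw [free hG P hR hvP (mem_nrm.1 hv.2), orderOf_one] at hvo
    norm_num at hvo
  have hcop : Nat.Coprime (Nat.card H) 9 := (Nat.Coprime.pow_left 2
    ((Nat.Prime.coprime_iff_not_dvd Nat.prime_three).2 h3)).symm
  exact hcop.dvd_of_dvd_mul_left (by rwa [show (9 : ℕ) * 16 = 144 from rfl])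

theorem card_norb_mul (P R : Sylow 3 G) :
    Nat.card (norb P R) * Nat.card (nrm P ⊓ nrm R : Subgroup G) = 144 := by
  rw [← card_normalizer_three hG P, Nat.card_congr (MulAction.orbitEquivQuotientStabilizer (nrm P) R),
    Subgroup.card_eq_card_quotient_mul_card_subgroup (MulAction.stabilizer (nrm P) R)]
  congr 1
  refine Nat.card_congr
    { toFun := fun g => ⟨⟨g.1, g.2.1⟩, mem_nrm.1 g.2.2⟩
      invFun := fun g => ⟨g.1.1, g.1.2, mem_nrm.2 g.2⟩
      left_inv := fun g => rfl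
      right_inv := fun g => rfl }

theorem norb_le (P : Sylow 3 G) {R : Sylow 3 G} (hR : R ≠ P) : Nat.card (norb P R) ≤ 54 := by
  classical
  haveI := Fintype.ofFinite (Sylow 3 G)
  have h : (norb P R).toFinset ⊆ Finset.univ.erase P := fun X hX => by
    rw [Set.mem_toFinset] at hX
    obtain ⟨⟨n, hn⟩, rfl⟩ := hX
    exact Finset.mem_erase.2 ⟨fun h => hR (smul_left_cancel n (h.trans (mem_nrm.1 hn).symm)),
      Finset.mem_univ _⟩
  have h2 := Finset.card_le_card h
  rw [Set.toFinset_card, ← Nat.card_eq_fintype_card, Finset.card_erase_of_mem (Finset.mem_univ _),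
    Finset.card_univ, ← Nat.card_eq_fintype_card, card_omega hG] at h2
  exact h2

/-- A Sylow 2-subgroup of the normaliser containing a given 2-subgroup. -/
theorem exists_sixteen (P : Sylow 3 G) {H : Subgroup G} (hH : H ≤ nrm P) {n : ℕ}
    (hc : Nat.card H = 2 ^ n) : ∃ S : Subgroup G, S ≤ nrm P ∧ H ≤ S ∧ Nat.card S = 2 ^ 4 := by
  haveI : Fact (Nat.Prime 2) := ⟨Nat.prime_two⟩
  obtain ⟨S, hS⟩ := (IsPGroup.of_card (n := n)
    (by rw [Nat.card_congr (subgroupOfEquivOfLe hH).toEquiv, hc]) :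
      IsPGroup 2 (H.subgroupOf (nrm P))).exists_le_sylow
  refine ⟨(S : Subgroup (nrm P)).map (nrm P).subtype, map_subtype_le _, fun h hh =>
    ⟨⟨h, hH hh⟩, hS (mem_subgroupOf.2 hh), rfl⟩, ?_⟩
  rw [card_map_of_injective (nrm P).subtype_injective]
  exact SmallSimple.card_sylow_eq S (k := 4) (m := 9)
    (by rw [card_normalizer_three hG P]; norm_num) (by norm_num)

/-- An involution with an element of order three in the normaliser of a 2-subgroup fixing it. -/
theorem exists_three_of_lt (P : Sylow 3 G) {S : Subgroup G} (hS : S ≤ nrm P) {n : ℕ}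
    (hc : Nat.card S = 2 ^ n) (h8 : 4 < Nat.card S) (h16 : 16 ∣ Nat.card (normalizer (S : Set G)))
    (hlt : 16 < Nat.card (normalizer (S : Set G))) :
    ∃ z ∈ S, orderOf z = 2 ∧ ∃ u : G, orderOf u = 3 ∧ (∀ a, a ∈ S ↔ u * a * u⁻¹ ∈ S) ∧
      ∀ a ∈ S, (u * a * u⁻¹ = a ↔ a = 1 ∨ a = z) := by
  classical
  haveI : Fact (Nat.Prime 3) := ⟨Nat.prime_three⟩
  obtain ⟨z, hzS, hz, hzinv, hzc, hzu⟩ := exists_central hG P hS hc h8
  have hNz : normalizer (S : Set G) ≤ centralizer ({z} : Set G) := by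
    intro g hg
    have h1 : g * z * g⁻¹ ∈ S := (mem_normalizer_iff.1 hg z).1 hzS
    have h2 : g * z * g⁻¹ = z := hzu _ h1 (by
      rw [show g * z * g⁻¹ = MulAut.conj g z from rfl, MulEquiv.orderOf_eq, hz]) fun s hs => by
        have hs' : g⁻¹ * s * g ∈ S := (mem_normalizer_iff.1 hg _).2 (by simpa [mul_assoc] using hs)
        calc s * (g * z * g⁻¹) = g * ((g⁻¹ * s * g) * z) * g⁻¹ := by group
          _ = g * (z * (g⁻¹ * s * g)) * g⁻¹ := by rw [hzc _ hs']
          _ = _ := by group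
    exact mem_centralizer_singleton_iff.2 (mul_inv_eq_iff_eq_mul.1 h2)
  have h48 := card_dvd_of_le hNz
  rw [card_centralizer_invol hG hz] at h48
  have h3 : 3 ∣ Nat.card (normalizer (S : Set G)) := by
    obtain ⟨m, hm⟩ := h16
    rw [hm] at h48 hlt ⊢
    have hm3 : m ∣ 3 := (Nat.mul_dvd_mul_iff_left (by norm_num : 0 < 16)).1
      (by rwa [show (16 : ℕ) * 3 = 48 from rfl])
    rcases (Nat.dvd_prime Nat.prime_three).1 hm3 with rfl | rfl
    · omega
    · norm_num
  obtain ⟨u, hu, huo⟩ := exists_orderOf_mem h3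
  refine ⟨z, hzS, hz, u, huo, mem_normalizer_iff.1 hu, fun a ha => ⟨fun h => ?_, ?_⟩⟩
  · set K := S ⊓ centralizer ({u} : Set G)
    have hzK : z ∈ K := ⟨hzS, mem_centralizer_singleton_iff.2
      (mem_centralizer_singleton_iff.1 (hNz hu)).symm⟩
    have haK : a ∈ K := ⟨ha, mem_centralizer_singleton_iff.2 (mul_inv_eq_iff_eq_mul.1 h).symm⟩
    have h1 : Nat.card K ∣ 2 ^ n := hc ▸ card_dvd_of_le inf_le_left
    have h2 : Nat.card K ∣ 18 :=
      (card_dvd_of_le inf_le_right).trans (card_centralizer_three hG huo)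
    have hK2 : Nat.card K ≤ 2 := by
      obtain ⟨i, -, hi⟩ := (Nat.dvd_prime_pow Nat.prime_two).1 h1
      rw [hi] at h2 ⊢
      rcases i with - | - | i
      · norm_num
      · norm_num
      · exfalso
        have : 4 ∣ 18 := Dvd.dvd.trans (show 4 ∣ 2 ^ (i + 1 + 1) from ⟨2 ^ i, by ring⟩) h2
        norm_num at this
    haveI := Fintype.ofFinite K
    have hz1 : z ≠ 1 := fun h => by rw [h, orderOf_one] at hz; norm_num at hz
    by_contra hcon
    push Not at hcon
    have hs : ({1, z, a} : Finset G) ⊆ (Finset.univ : Finset K).map ⟨Subtype.val, Subtype.val_injective⟩ := by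
      intro x hx
      simp only [Finset.mem_insert, Finset.mem_singleton] at hx
      refine Finset.mem_map.2 ?_
      rcases hx with rfl | rfl | rfl
      exacts [⟨1, Finset.mem_univ _, rfl⟩, ⟨⟨x, hzK⟩, Finset.mem_univ _, rfl⟩,
        ⟨⟨x, haK⟩, Finset.mem_univ _, rfl⟩]
    have := Finset.card_le_card hs
    rw [Finset.card_map, Finset.card_univ, ← Nat.card_eq_fintype_card,
      Finset.card_eq_three.2 ⟨1, z, a, hz1.symm, fun h => hcon.1 h.symm, fun h => hcon.2 h.symm, rfl⟩] at this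
    omega
  · rintro (rfl | rfl)
    · simp
    · exact mul_inv_eq_iff_eq_mul.2 (mem_centralizer_singleton_iff.1 (hNz hu))

omit [IsSimpleGroup G] hG in
/-- Conjugation as a permutation of an invariant subgroup of elements. -/
theorem fixed_conj {S : Subgroup G} {u : G} (hu : orderOf u = 3) (hS : ∀ a, a ∈ S ↔ u * a * u⁻¹ ∈ S)
    (p : G → Prop) (hp : ∀ a, p a ↔ p (u * a * u⁻¹)) (T : Finset {a : G // a ∈ S ∧ p a})
    (hT : ∀ a, a ∈ T ↔ u * (a : G) * u⁻¹ = a) :
    Nat.card {a : G // a ∈ S ∧ p a} ≡ T.card [MOD 3] := by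
  refine fixed_mod_three ((MulAut.conj u).toEquiv.subtypeEquiv fun a => and_congr (hS a) (hp a))
    (fun a => Subtype.ext ?_) T fun a => (hT a).trans ⟨fun h => Subtype.ext h, congrArg Subtype.val⟩
  change u * (u * (u * (a : G) * u⁻¹) * u⁻¹) * u⁻¹ = a
  calc _ = u ^ 3 * (a : G) * (u ^ 3)⁻¹ := by simp only [pow_succ, pow_zero, one_mul, mul_inv_rev, mul_assoc]
    _ = a := by rw [← hu, pow_orderOf_eq_one]; group

theorem exists_move (P R : Sylow 3 G) : ∃ g : G, g • P = R := MulAction.exists_smul_eq G P R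

theorem card_stab_ne_sixteen (P : Sylow 3 G) {R : Sylow 3 G} (hR : R ≠ P) :
    Nat.card (nrm P ⊓ nrm R : Subgroup G) ≠ 16 := by
  classical
  intro h16
  haveI : Fact (Nat.Prime 2) := ⟨Nat.prime_two⟩
  haveI : Fact (Nat.Prime 3) := ⟨Nat.prime_three⟩
  set S := nrm P ⊓ nrm R with hS
  obtain ⟨g, hg⟩ := exists_move hG P R
  -- the conjugate of `S` is a Sylow subgroup of the normaliser of `R`
  set S' := S.map (MulAut.conj g).toMonoidHom with hS'
  have hS'R : S' ≤ nrm R := by
    rintro _ ⟨a, ha, rfl⟩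
    rw [mem_nrm, ← hg, MulEquiv.coe_toMonoidHom, MulAut.conj_apply, smul_smul, inv_mul_cancel_right,
      mul_smul, mem_nrm.1 ha.1]
  have hS'c : Nat.card S' = 16 := by
    rw [card_map_of_injective (MulAut.conj g).injective, h16]
  have hmk : ∀ {A : Subgroup G}, A ≤ nrm R → Nat.card A = 16 → ∃ T : Sylow 2 (nrm R),
      (T : Subgroup (nrm R)) = A.subgroupOf (nrm R) := fun {A} hA hc =>
    ⟨Sylow.ofCard (A.subgroupOf (nrm R)) (by
      rw [Nat.card_congr (subgroupOfEquivOfLe hA).toEquiv, hc, card_normalizer_three hG R]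
      rw [show (144 : ℕ) = 2 ^ 4 * 9 from rfl, Nat.factorization_mul (by norm_num) (by norm_num),
        Finsupp.add_apply, Nat.prime_two.factorization_pow, Finsupp.single_eq_same,
        Nat.factorization_eq_zero_of_not_dvd (by norm_num)]
      norm_num), Sylow.coe_ofCard _ _⟩
  obtain ⟨T₁, hT₁⟩ := hmk hS'R hS'c
  obtain ⟨T₂, hT₂⟩ := hmk (A := S) inf_le_right h16
  obtain ⟨m, hm⟩ := MulAction.exists_smul_eq (nrm R) T₁ T₂
  have hmem : ∀ a, a ∈ S → (m : G) * (g * a * g⁻¹) * (m : G)⁻¹ ∈ S := fun a ha => by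
    have h1 : (⟨g * a * g⁻¹, hS'R ⟨a, ha, rfl⟩⟩ : nrm R) ∈ (T₁ : Subgroup (nrm R)) := by
      rw [hT₁, mem_subgroupOf]; exact ⟨a, ha, rfl⟩
    have h2 : MulAut.conj m ⟨g * a * g⁻¹, hS'R ⟨a, ha, rfl⟩⟩ ∈ (T₂ : Subgroup (nrm R)) := by
      rw [← hm, Sylow.coe_subgroup_smul]
      exact ⟨_, h1, rfl⟩
    rw [hT₂, mem_subgroupOf] at h2
    exact h2
  set k := (m : G) * g with hk
  have hkS : k ∈ normalizer (S : Set G) := by
    haveI := Fintype.ofFinite S
    let f : S → S := fun a => ⟨k * a * k⁻¹, by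
      have := hmem a a.2
      simpa [hk, mul_assoc] using this⟩
    have hf : Function.Injective f := fun a b h => Subtype.ext (by
      simpa [f] using congrArg Subtype.val h)
    refine mem_normalizer_iff.2 fun a => ⟨fun ha => (f ⟨a, ha⟩).2, fun ha => ?_⟩
    obtain ⟨b, hb⟩ := (Finite.injective_iff_surjective.1 hf) ⟨_, ha⟩
    have : (b : G) = a := by simpa [f] using congrArg Subtype.val hb
    exact this ▸ b.2
  have hkP : k • P = R := by rw [hk, mul_smul, hg]; exact mem_nrm.1 m.2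
  have hlt : 16 < Nat.card (normalizer (S : Set G)) := by
    refine h16 ▸ lt_of_le_of_ne (card_le_of_le le_normalizer) fun he => hR ?_
    have := eq_of_le_of_card_ge (le_normalizer (H := S)) he.ge
    rw [← hkP]
    exact mem_nrm.1 (this.ge hkS).1
  obtain ⟨z, hzS, hz, u, hu, huS, hfix⟩ := exists_three_of_lt hG P inf_le_left
    (n := 4) (by rw [h16]; norm_num) (by rw [h16]; norm_num)
    (h16 ▸ card_dvd_of_le le_normalizer) hlt
  have hz1 : (1 : G) ≠ z := fun h => by rw [← h, orderOf_one] at hz; norm_num at hz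
  have h := fixed_conj hu huS (fun _ => True) (fun _ => Iff.rfl)
    {⟨1, S.one_mem, trivial⟩, ⟨z, hzS, trivial⟩} fun a => by
      rw [Finset.mem_insert, Finset.mem_singleton, hfix a.1 a.2.1, Subtype.ext_iff, Subtype.ext_iff]
  rw [Finset.card_pair (fun h => hz1 (congrArg Subtype.val h)),
    Nat.card_congr (Equiv.subtypeEquivRight fun a => and_iff_left trivial), h16] at h
  simp [Nat.ModEq] at h

theorem card_stab (P : Sylow 3 G) {R : Sylow 3 G} (hR : R ≠ P) :
    Nat.card (nrm P ⊓ nrm R : Subgroup G) = 4 ∨ Nat.card (nrm P ⊓ nrm R : Subgroup G) = 8 := by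
  obtain ⟨i, hi, hc⟩ := (Nat.dvd_prime_pow Nat.prime_two).1
    (show _ ∣ 2 ^ 4 from card_stab_dvd hG P hR)
  have h1 := card_norb_mul hG P R
  have h2 := norb_le hG P hR
  have h3 := card_stab_ne_sixteen hG P hR
  rw [hc] at h1 h3 ⊢
  interval_cases i <;> omega

end CfsgLib.M11Uniq
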