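import Cfsg.Agent.SmallSimple.M11Uniq.Orbit

/-!
# The neighbours of a Sylow 3-subgroup
-/

set_option autoImplicit false
set_option linter.style.haveILetI false
set_option linter.unusedSectionVars false

namespace CfsgLib.M11Uniq

open Subgroup MulAction CfsgLib.Order7920 CfsgLib.Order7920Classes Finset

variable {G : Type*} [Group G]

/-- Adjacency: the two normalisers meet in a group of order eight. -/
def Adj (P X : Sylow 3 G) : Prop := X ≠ P ∧ Nat.card (nrm P ⊓ nrm X : Subgroup G) = 8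

theorem Adj.symm {P X : Sylow 3 G} (h : Adj P X) : Adj X P :=
  ⟨h.1.symm, by rw [inf_comm]; exact h.2⟩

variable [Finite G]

theorem adj_smul (g : G) {P X : Sylow 3 G} : Adj (g • P) (g • X) ↔ Adj P X := by
  haveI : Fact (Nat.Prime 3) := ⟨Nat.prime_three⟩
  rw [Adj, Adj, card_conj_smul_nrm, ne_eq, smul_left_cancel_iff]

noncomputable instance : Fintype (Sylow 3 G) := Fintype.ofFinite _

open scoped Classical in
/-- The neighbours. -/
noncomputable def nb (P : Sylow 3 G) : Finset (Sylow 3 G) := Finset.univ.filter (Adj P)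

theorem mem_nb {P X : Sylow 3 G} : X ∈ nb P ↔ Adj P X := by simp [nb]

open scoped Classical in
/-- The orbit of `X` under the Sylow subgroup `P`. -/
noncomputable def part (P X : Sylow 3 G) : Finset (Sylow 3 G) :=
  Finset.univ.filter fun Y => ∃ q ∈ (P : Subgroup G), q • X = Y

theorem mem_part {P X Y : Sylow 3 G} : Y ∈ part P X ↔ ∃ q ∈ (P : Subgroup G), q • X = Y := by
  simp [part]

theorem self_mem_part (P X : Sylow 3 G) : X ∈ part P X :=
  mem_part.2 ⟨1, one_mem _, one_smul _ _⟩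

theorem part_eq {P X Y : Sylow 3 G} (h : Y ∈ part P X) : part P Y = part P X := by
  obtain ⟨q, hq, rfl⟩ := mem_part.1 h
  ext Z
  simp only [mem_part]
  constructor
  · rintro ⟨r, hr, rfl⟩
    exact ⟨r * q, mul_mem hr hq, mul_smul _ _ _⟩
  · rintro ⟨r, hr, rfl⟩
    exact ⟨r * q⁻¹, mul_mem hr (inv_mem hq), by rw [smul_smul, inv_mul_cancel_right]⟩

theorem smul_mem_part (g : G) {P X Y : Sylow 3 G} (h : Y ∈ part P X) :
    g • Y ∈ part (g • P) (g • X) := by
  obtain ⟨q, hq, rfl⟩ := mem_part.1 h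
  refine mem_part.2 ⟨g * q * g⁻¹, ?_, by rw [smul_smul, inv_mul_cancel_right, mul_smul]⟩
  rw [Sylow.smul_def, Sylow.pointwise_smul_def]
  exact ⟨q, hq, rfl⟩

theorem smul_mem_part_iff (g : G) {P X Y : Sylow 3 G} :
    g • Y ∈ part (g • P) (g • X) ↔ Y ∈ part P X :=
  ⟨fun h => by simpa using smul_mem_part g⁻¹ h, smul_mem_part g⟩

variable [IsSimpleGroup G] (hG : Nat.card G = 7920)
include hG

theorem adj_transitive {P X : Sylow 3 G} (hX : Adj P X) {Y : Sylow 3 G} (hY : Adj P Y) :
    ∃ n ∈ nrm P, n • X = Y := by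
  classical
  haveI : Fact (Nat.Prime 3) := ⟨Nat.prime_three⟩
  obtain ⟨R, hR, hR4⟩ := exists_four hG P
  have hc : ∀ Z, Nat.card (norb P Z) = (norb P Z).toFinset.card := fun Z => by
    rw [Set.toFinset_card, Nat.card_eq_fintype_card]
  have h18 : ∀ {Z}, Adj P Z → (norb P Z).toFinset.card = 18 := fun {Z} hZ => by
    have := card_norb_mul hG P Z
    rw [hZ.2, hc] at this
    omega
  have h36 : (norb P R).toFinset.card = 36 := by
    have := card_norb_mul hG P R
    rw [hR4, hc] at this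
    omega
  have hne : ∀ {Z}, Z ≠ P → (norb P Z).toFinset ⊆ univ.erase P := fun {Z} hZ W hW => by
    rw [Set.mem_toFinset] at hW
    obtain ⟨⟨n, hn⟩, rfl⟩ := hW
    exact mem_erase.2 ⟨fun h => hZ (smul_left_cancel n (h.trans (mem_nrm.1 hn).symm)), mem_univ _⟩
  by_contra hcon
  have hXY : Disjoint (norb P X).toFinset (norb P Y).toFinset := by
    rw [Finset.disjoint_left]
    intro W h1 h2
    rw [Set.mem_toFinset] at h1 h2
    have h3 : Y ∈ norb P X := by
      have he : norb P Y = norb P X :=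
        (MulAction.orbit_eq_iff.2 h2).symm.trans (MulAction.orbit_eq_iff.2 h1)
      rw [← he]
      exact MulAction.mem_orbit_self Y
    obtain ⟨⟨n, hn⟩, hnY⟩ := h3
    exact hcon ⟨n, hn, hnY⟩
  have hdR : ∀ {Z}, Adj P Z → Disjoint (norb P Z).toFinset (norb P R).toFinset := fun {Z} hZ => by
    rw [Finset.disjoint_left]
    intro W h1 h2
    rw [Set.mem_toFinset] at h1 h2
    have h3 := h18 hZ
    have he : norb P Z = norb P R :=
      (MulAction.orbit_eq_iff.2 h1).symm.trans (MulAction.orbit_eq_iff.2 h2)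
    simp only [he] at h3
    omega
  have h := card_le_card (union_subset (union_subset (hne hX.1) (hne hY.1)) (hne hR))
  rw [card_union_of_disjoint (disjoint_union_left.2 ⟨hdR hX, hdR hY⟩), card_union_of_disjoint hXY,
    h18 hX, h18 hY, h36, card_erase_of_mem (mem_univ _), card_univ, ← Nat.card_eq_fintype_card,
    card_omega hG] at h
  omega

theorem exists_adj (P : Sylow 3 G) : ∃ X, Adj P X := by
  classical
  by_contra hcon
  push Not at hcon
  have h36 : ∀ Z, Z ≠ P → Nat.card (norb P Z) = 36 := fun Z hZ => by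
    have := card_norb_mul hG P Z
    have h4 := (card_stab hG P hZ).resolve_right fun h => hcon Z ⟨hZ, h⟩
    rw [h4] at this
    omega
  obtain ⟨R, hR, -⟩ := exists_four hG P
  have hc : ∀ Z, Nat.card (norb P Z) = (norb P Z).toFinset.card := fun Z => by
    rw [Set.toFinset_card, Nat.card_eq_fintype_card]
  have hsub : ∀ {Z}, Z ≠ P → (norb P Z).toFinset ⊆ univ.erase P := fun {Z} hZ W hW => by
    rw [Set.mem_toFinset] at hW
    obtain ⟨⟨n, hn⟩, rfl⟩ := hW
    exact mem_erase.2 ⟨fun h => hZ (smul_left_cancel n (h.trans (mem_nrm.1 hn).symm)), mem_univ _⟩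
  have h54 : (univ.erase P).card = 54 := by
    rw [card_erase_of_mem (mem_univ _), card_univ, ← Nat.card_eq_fintype_card, card_omega hG]
  obtain ⟨S, hS, hSR⟩ := exists_mem_notMem_of_card_lt_card
    (show (norb P R).toFinset.card < (univ.erase P).card by rw [h54, ← hc, h36 R hR]; norm_num)
  have hd : Disjoint (norb P R).toFinset (norb P S).toFinset := by
    rw [Finset.disjoint_left]
    intro W h1 h2
    rw [Set.mem_toFinset] at h1 h2
    refine hSR (Set.mem_toFinset.2 ?_)
    have he : norb P S = norb P R :=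
      (MulAction.orbit_eq_iff.2 h2).symm.trans (MulAction.orbit_eq_iff.2 h1)
    rw [← he]
    exact MulAction.mem_orbit_self S
  have h := card_le_card (union_subset (hsub hR) (hsub (ne_of_mem_erase hS)))
  rw [card_union_of_disjoint hd, ← hc, ← hc, h36 R hR, h36 S (ne_of_mem_erase hS), h54] at h
  omega

theorem card_nb (P : Sylow 3 G) : (nb P).card = 18 := by
  classical
  haveI : Fact (Nat.Prime 3) := ⟨Nat.prime_three⟩
  obtain ⟨X, hX⟩ := exists_adj hG P
  have h := card_norb_mul hG P X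
  rw [hX.2] at h
  have he : nb P = (norb P X).toFinset := by
    ext Y
    rw [mem_nb, Set.mem_toFinset]
    refine ⟨fun hY => ?_, ?_⟩
    · obtain ⟨n, hn, hnX⟩ := adj_transitive hG hX hY
      exact ⟨⟨n, hn⟩, hnX⟩
    · rintro ⟨⟨n, hn⟩, rfl⟩
      have h2 := (adj_smul n).2 hX
      rwa [mem_nrm.1 hn] at h2
  rw [he, Set.toFinset_card, ← Nat.card_eq_fintype_card]
  omega

theorem card_part {P X : Sylow 3 G} (hX : X ≠ P) : (part P X).card = 9 := by
  classical
  haveI := Fintype.ofFinite (P : Subgroup G)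
  have he : part P X = (univ : Finset (P : Subgroup G)).image fun q : (P : Subgroup G) => (q : G) • X := by
    ext Y; simp [mem_part]
  rw [he, card_image_of_injective, card_univ, ← Nat.card_eq_fintype_card, card_sylow_three hG P]
  intro a b h
  exact Subtype.ext (inv_mul_eq_one.1 (free hG P hX (mul_mem (inv_mem b.2) a.2)
    (show ((b : G)⁻¹ * a) • X = X by rw [mul_smul, show (a : G) • X = (b : G) • X from h, inv_smul_smul]))).symm

theorem part_subset_nb {P X : Sylow 3 G} (hX : Adj P X) : part P X ⊆ nb P := by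
  haveI : Fact (Nat.Prime 3) := ⟨Nat.prime_three⟩
  intro Y hY
  obtain ⟨q, hq, rfl⟩ := mem_part.1 hY
  have h2 := (adj_smul q).2 hX
  rw [mem_nrm.1 (le_normalizer hq)] at h2
  exact mem_nb.2 h2

/-- The inverting involution fixes at most one point of each regular orbit. -/
theorem eq_of_fixed {P X Y : Sylow 3 G} (hX : X ≠ P) {z : G} (hz : Inverts z (P : Subgroup G))
    (hzX : z • X = X) (hY : Y ∈ part P X) (hzY : z • Y = Y) : Y = X := by
  obtain ⟨q, hq, rfl⟩ := mem_part.1 hY
  have h1 : z • (q • X) = q⁻¹ • X := by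
    rw [smul_smul, show z * q = (z * q * z⁻¹) * z by group, hz q hq, mul_smul, hzX]
  have h2 : (q * q) • X = X := by
    rw [mul_smul]
    exact (smul_eq_iff_eq_inv_smul q).2 (hzY.symm.trans h1)
  have h3 := free hG P hX (mul_mem hq hq) h2
  have h9 := pow_card_eq_one_of_mem (card_sylow_three hG P) hq
  rw [show (9 : ℕ) = 2 * 4 + 1 from rfl, pow_succ, pow_mul, sq, h3, one_pow, one_mul] at h9
  rw [h9, one_smul]

/-- The data of an edge: a second part, with a third point fixed by the meet. -/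
theorem third {P X : Sylow 3 G} (hX : Adj P X) :
    ∃ Y, Adj P Y ∧ Y ∉ part P X ∧ nrm P ⊓ nrm Y = nrm P ⊓ nrm X ∧
      (∀ W ∈ nb P, W ∈ part P X ∨ W ∈ part P Y) ∧
      ∀ W, W ≠ P → (∀ a ∈ nrm P ⊓ nrm X, a • W = W) → W = X ∨ W = Y := by
  classical
  haveI : Fact (Nat.Prime 3) := ⟨Nat.prime_three⟩
  haveI : Fact (Nat.Prime 2) := ⟨Nat.prime_two⟩
  obtain ⟨z, hzH, hz, hinv, hcz, hu⟩ := exists_invol_eight hG P hX.1 hX.2
  have hzP := mem_nrm.1 hzH.1
  have hzX := mem_nrm.1 hzH.2
  set B := nb P \ part P X with hB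
  have hBc : B.card = 9 := by
    rw [hB, card_sdiff_of_subset (part_subset_nb hG hX), card_nb hG, card_part hG hX.1]
  obtain ⟨W₀, hW₀⟩ : B.Nonempty := card_pos.1 (by omega)
  rw [hB, mem_sdiff, mem_nb] at hW₀
  have hBeq : ∀ W ∈ nb P, W ∉ part P X → W ∈ part P W₀ := by
    have hsub : part P W₀ ⊆ B := fun W hW => mem_sdiff.2 ⟨part_subset_nb hG hW₀.1 hW, fun h =>
      hW₀.2 (by rw [← part_eq h, part_eq hW]; exact self_mem_part P W₀)⟩
    intro W hW hWX
    rw [eq_of_subset_of_card_le hsub (by rw [hBc, card_part hG hW₀.1.1])]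
    exact mem_sdiff.2 ⟨hW, hWX⟩
  -- the involution fixes a point of the other part
  have hzB : ∀ W ∈ part P W₀, z • W ∈ part P W₀ := by
    intro W hW
    have hWnb := mem_nb.1 (part_subset_nb hG hW₀.1 hW)
    refine hBeq _ (mem_nb.2 ?_) fun h => ?_
    · have := (adj_smul z).2 hWnb
      rwa [hzP] at this
    · have h' : z • W ∈ part (z • P) (z • X) := by rwa [hzP, hzX]
      have h2 : W ∈ part P X := (smul_mem_part_iff z).1 h'
      exact hW₀.2 (by rw [← part_eq h2, part_eq hW]; exact self_mem_part P W₀)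
  have hzz : z * z = 1 := by rw [← sq, ← hz, pow_orderOf_eq_one]
  let f : Equiv.Perm {W // W ∈ part P W₀} :=
    Function.Involutive.toPerm (fun W => ⟨z • W.1, hzB _ W.2⟩)
      (fun W => Subtype.ext (by change z • z • W.1 = W.1; rw [smul_smul, hzz, one_smul]))
  obtain ⟨Y, hY, hzY⟩ : ∃ Y ∈ part P W₀, z • Y = Y := by
    by_contra h
    push Not at h
    have h2 := Equiv.Perm.card_compl_support_modEq (p := 2) (n := 1) (σ := f) (by
      rw [pow_one, sq]
      refine Equiv.ext fun W => Subtype.ext ?_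
      change z • z • W.1 = W.1
      rw [smul_smul, hzz, one_smul])
    have he : (f.support)ᶜ = (∅ : Finset _) := by
      ext W
      simp only [Finset.mem_compl, Equiv.Perm.mem_support, not_not, Finset.notMem_empty, iff_false]
      exact fun hW => h W.1 W.2 (congrArg Subtype.val hW)
    rw [he, card_empty, Fintype.card_coe, card_part hG hW₀.1.1] at h2
    simp [Nat.ModEq] at h2
  have hYadj := mem_nb.1 (part_subset_nb hG hW₀.1 hY)
  have hYX : Y ∉ part P X := fun h => hW₀.2 (by rw [← part_eq h, part_eq hY]; exact self_mem_part P W₀)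
  -- the meet fixes it
  have hHY : ∀ a ∈ nrm P ⊓ nrm X, a • Y = Y := by
    intro a ha
    have haP := mem_nrm.1 ha.1
    have haX := mem_nrm.1 ha.2
    have hmem : a • Y ∈ part P Y := by
      have h1 : Adj P (a • Y) := by
        have := (adj_smul a).2 hYadj
        rwa [haP] at this
      rw [part_eq hY]
      refine hBeq _ (mem_nb.2 h1) fun h => hYX ?_
      have h' : a • Y ∈ part (a • P) (a • X) := by rwa [haP, haX]
      exact (smul_mem_part_iff a).1 h'
    exact eq_of_fixed hG hYadj.1 hinv hzY hmem (by rw [smul_smul, ← hcz a ha, mul_smul, hzY])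
  have hle : nrm P ⊓ nrm X ≤ nrm P ⊓ nrm Y := fun a ha => ⟨ha.1, mem_nrm.2 (hHY a ha)⟩
  have hsplit : ∀ W ∈ nb P, W ∈ part P X ∨ W ∈ part P Y := fun W hW => by
    by_cases h : W ∈ part P X
    · exact Or.inl h
    · exact Or.inr (part_eq hY ▸ hBeq W hW h)
  refine ⟨Y, hYadj, hYX, (eq_of_le_of_card_ge hle (by rw [hX.2, hYadj.2])).symm, hsplit,
    fun W hWP hfix => ?_⟩
  have hW : Adj P W := by
    refine ⟨hWP, (card_stab hG P hWP).resolve_left fun h4 => ?_⟩
    have hle' : nrm P ⊓ nrm X ≤ nrm P ⊓ nrm W := fun a ha => ⟨ha.1, mem_nrm.2 (hfix a ha)⟩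
    have := card_le_of_le hle'
    rw [hX.2, h4] at this
    omega
  rcases hsplit W (mem_nb.2 hW) with h | h
  · exact Or.inl (eq_of_fixed hG hX.1 hinv hzX h (hfix z hzH))
  · exact Or.inr (eq_of_fixed hG hYadj.1 hinv hzY h (hfix z hzH))

/-- The meet is transitive on the rest of a part. -/
theorem regular {P X : Sylow 3 G} (hX : Adj P X) {V W : Sylow 3 G} (hV : V ∈ part P X) (hVX : V ≠ X)
    (hW : W ∈ part P X) (hWX : W ≠ X) : ∃ a ∈ nrm P ⊓ nrm X, a • V = W := by
  classical
  haveI : Fact (Nat.Prime 3) := ⟨Nat.prime_three⟩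
  obtain ⟨z, hzH, -, hinv, -, hu⟩ := exists_invol_eight hG P hX.1 hX.2
  haveI := Fintype.ofFinite (nrm P ⊓ nrm X : Subgroup G)
  set im := (univ : Finset (nrm P ⊓ nrm X : Subgroup G)).image fun a : (nrm P ⊓ nrm X : Subgroup G) => (a : G) • V
  have hsub : im ⊆ (part P X).erase X := by
    intro U hU
    obtain ⟨⟨a, ha⟩, -, rfl⟩ := mem_image.1 hU
    refine mem_erase.2 ⟨fun h => hVX (smul_left_cancel a (h.trans (mem_nrm.1 ha.2).symm)), ?_⟩
    have h := smul_mem_part a hV
    rwa [mem_nrm.1 ha.1, mem_nrm.1 ha.2] at h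
  have hcard : im.card = 8 := by
    rw [card_image_of_injective, card_univ, ← Nat.card_eq_fintype_card, hX.2]
    intro a b h
    by_contra hne
    obtain ⟨m, hm⟩ := exists_pow_eq hG hX.2 hu ((b⁻¹ * a).2) (fun h' => hne (inv_mul_eq_one.1
      (Subtype.ext h' : (b⁻¹ * a) = 1)).symm)
    have hfix : ((b⁻¹ * a : (nrm P ⊓ nrm X : Subgroup G)) : G) ∈ MulAction.stabilizer G V := by
      rw [MulAction.mem_stabilizer_iff, Subgroup.coe_mul, Subgroup.coe_inv, mul_smul,
        show (a : G) • V = (b : G) • V from h, inv_smul_smul]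
    have hzV : z • V = V := hm ▸ MulAction.mem_stabilizer_iff.1 (pow_mem hfix m)
    exact hVX (eq_of_fixed hG hX.1 hinv (mem_nrm.1 hzH.2) hV hzV)
  have he := eq_of_subset_of_card_le hsub (by
    rw [hcard, card_erase_of_mem (self_mem_part P X), card_part hG hX.1])
  obtain ⟨a, -, ha⟩ := mem_image.1 (he ▸ mem_erase.2 ⟨hWX, hW⟩ : W ∈ im)
  exact ⟨a, a.2, ha⟩

/-- An edge lies in a triangle fixed by its meet. -/
theorem third_adj {P X Y : Sylow 3 G} (hX : Adj P X) (hY : Adj P Y) (hYX : Y ∉ part P X)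
    (hH : nrm P ⊓ nrm Y = nrm P ⊓ nrm X) : Adj X Y := by
  haveI : Fact (Nat.Prime 3) := ⟨Nat.prime_three⟩
  obtain ⟨W, hW, hWnp, hHW, -, -⟩ := third hG hX.symm
  obtain ⟨Y', hY', -, -, -, huniq⟩ := third hG hX
  have hne : Y ≠ X := fun h => hYX (h ▸ self_mem_part P X)
  have hfY : ∀ a ∈ nrm P ⊓ nrm X, a • Y = Y := fun a ha => mem_nrm.1 (hH.ge ha).2
  have hWP : W ≠ P := fun h => hWnp (h ▸ self_mem_part X P)
  have hfW : ∀ a ∈ nrm P ⊓ nrm X, a • W = W := fun a ha =>
    mem_nrm.1 (hHW.ge ⟨ha.2, ha.1⟩).2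
  rcases huniq W hWP hfW with h | h
  · exact absurd h hW.1
  · rcases huniq Y hY.1 hfY with h' | h'
    · exact absurd h' hne
    · rw [h', ← h]; exact hW

end CfsgLib.M11Uniq
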